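import Cfsg.Agent.Lib.PMinLie.Overgroups
import Mathlib.GroupTheory.SpecificGroups.Alternating.Simple

/-!
The two overgroups of a Sylow 2-subgroup of the alternating group of degree six.
-/

set_option autoImplicit false
set_option linter.style.haveILetI false

namespace CfsgLib.PMinLie.AltSix

abbrev A6 : Type := ↥(alternatingGroup (Fin 6))

/-- A transposition; its centraliser is the stabiliser of a pair. -/
def tr : Equiv.Perm (Fin 6) := Equiv.swap 4 5

/-- A product of three transpositions; its centraliser is the stabiliser of a pairing. -/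
def tri : Equiv.Perm (Fin 6) := Equiv.swap 0 1 * Equiv.swap 2 3 * Equiv.swap 4 5

/-- The stabiliser of a pair. -/
def Q₁ : Subgroup A6 := (Subgroup.centralizer {tr}).comap (alternatingGroup (Fin 6)).subtype

/-- The stabiliser of a pairing. -/
def Q₂ : Subgroup A6 := (Subgroup.centralizer {tri}).comap (alternatingGroup (Fin 6)).subtype

theorem mem_Q₁ (g : A6) : g ∈ Q₁ ↔ g.1 * tr = tr * g.1 := by
  rw [Q₁, Subgroup.mem_comap, Subgroup.mem_centralizer_singleton_iff]; rfl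

theorem mem_Q₂ (g : A6) : g ∈ Q₂ ↔ g.1 * tri = tri * g.1 := by
  rw [Q₂, Subgroup.mem_comap, Subgroup.mem_centralizer_singleton_iff]; rfl

instance : DecidablePred (· ∈ Q₁) := fun g => decidable_of_iff _ (mem_Q₁ g).symm

instance : DecidablePred (· ∈ Q₂) := fun g => decidable_of_iff _ (mem_Q₂ g).symm

/-- The Sylow 2-subgroup. -/
abbrev U : Subgroup A6 := Q₁ ⊓ Q₂

instance : DecidablePred (· ∈ U) := fun g => decidable_of_iff (g ∈ Q₁ ∧ g ∈ Q₂) Subgroup.mem_inf.symm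

/-- The elements of `U`. -/
def uList : List A6 :=
  [1, ⟨Equiv.swap 2 3 * Equiv.swap 4 5, Equiv.Perm.mem_alternatingGroup.2 (by decide +kernel)⟩, ⟨Equiv.swap 0 1 * Equiv.swap 4 5, Equiv.Perm.mem_alternatingGroup.2 (by decide +kernel)⟩,
    ⟨Equiv.swap 0 1 * Equiv.swap 2 3, Equiv.Perm.mem_alternatingGroup.2 (by decide +kernel)⟩, ⟨Equiv.swap 0 2 * Equiv.swap 1 3, Equiv.Perm.mem_alternatingGroup.2 (by decide +kernel)⟩,
    ⟨Equiv.swap 0 2 * Equiv.swap 2 1 * Equiv.swap 1 3 * Equiv.swap 4 5, Equiv.Perm.mem_alternatingGroup.2 (by decide +kernel)⟩,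
    ⟨Equiv.swap 0 3 * Equiv.swap 3 1 * Equiv.swap 1 2 * Equiv.swap 4 5, Equiv.Perm.mem_alternatingGroup.2 (by decide +kernel)⟩,
    ⟨Equiv.swap 0 3 * Equiv.swap 1 2, Equiv.Perm.mem_alternatingGroup.2 (by decide +kernel)⟩]

theorem uList_mem : ∀ u ∈ uList, u ∈ U := by decide +kernel

theorem card_facts :
    Nat.card U = 8 ∧ Nat.card Q₁ = 24 ∧ Nat.card Q₂ = 24 ∧ Nat.card A6 = 360 := by
  refine ⟨?_, ?_, ?_, ?_⟩ <;> rw [Nat.card_eq_fintype_card] <;> decide +kernel

theorem list_facts : (∀ x : Fin 6, 4 ≤ x.val → ∃ u ∈ uList, u.1 4 = x) ∧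
    (∀ a b : Fin 6, a.val < 4 → b.val < 4 → ∃ u ∈ uList, u.1 a = b) ∧
    (∀ x : Fin 6, x.val < 4 → ∃ u ∈ uList, u.1 x = x ∧ ∀ z : Fin 6, u.1 z = z → z = x ∨ z = tri x) ∧
    (∀ u ∈ uList, u.1 4 = 4 → u.1 5 = 5) ∧ (∀ u ∈ uList, u.1 4 = 5 → u.1 5 = 4) ∧
    (uList.filter fun u => u.1 4 = 4).Nodup ∧ (uList.filter fun u => u.1 4 = 4).length = 4 := by
  decide +kernel

theorem tri_facts : tri 4 = 5 ∧ tri 5 = 4 ∧ ∀ z : Fin 6, tri (tri z) = z := by decide +kernel

theorem tr_facts : ∀ g : Equiv.Perm (Fin 6), g 4 = 4 ∧ g 5 = 5 ∨ g 4 = 5 ∧ g 5 = 4 → g * tr = tr * g := by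
  rintro g (⟨h4, h5⟩ | ⟨h4, h5⟩) <;> ext z <;> simp only [tr, Equiv.Perm.mul_apply, Equiv.swap_apply_def] <;>
    by_cases h1 : z = 4 <;> by_cases h2 : z = 5 <;> simp_all
  all_goals
    have n4 : g z ≠ g 4 := fun e => h1 (g.injective e)
    have n5 : g z ≠ g 5 := fun e => h2 (g.injective e)
    simp_all

theorem index_ge_six {Y : Subgroup A6} (hY : Y ≠ ⊤) : 6 ≤ Y.index := by
  haveI : IsSimpleGroup A6 := alternatingGroup.isSimpleGroup (by simp)
  by_contra hlt
  rcases Subgroup.Normal.eq_bot_or_eq_top (inferInstance : Y.normalCore.Normal) with h | h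
  · have hd : Nat.card A6 ∣ Y.index.factorial := by
      rw [← Subgroup.index_bot, ← h, Subgroup.normalCore_eq_ker, Subgroup.index_ker,
        Subgroup.index, ← Nat.card_perm]
      exact Subgroup.card_subgroup_dvd_card _
    have h4 := Nat.le_of_dvd (Nat.factorial_pos _) hd
    have h5 := Nat.factorial_le (show Y.index ≤ 5 by omega)
    rw [card_facts.2.2.2] at h4
    simp [Nat.factorial] at h5
    omega
  · exact hY (top_le_iff.1 (h ▸ Y.normalCore_le))

/-- A transitive group of order twenty-four over `U` preserves the pairing. -/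
theorem le_Q₂ {Y : Subgroup A6} (hUY : U ≤ Y) (htr : ∀ x : Fin 6, ∃ y ∈ Y, y.1 4 = x)
    (hY : Nat.card Y ∣ 24) : Y ≤ Q₂ := by
  obtain ⟨f1, f2, f3, f4, f5, f6, f7⟩ := list_facts
  obtain ⟨t4, t5, tt⟩ := tri_facts
  have hmem : ∀ u ∈ uList, u ∈ Y := fun u hu => hUY (uList_mem u hu)
  have hst : ∀ y ∈ Y, y.1 4 = 4 → y.1 5 = 5 := by
    intro y hy hy4
    have horb : MulAction.orbit Y (4 : Fin 6) = Set.univ := Set.eq_univ_iff_forall.2 fun x => by
      obtain ⟨z, hz, hzx⟩ := htr x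
      exact ⟨⟨z, hz⟩, hzx⟩
    have hidx : (MulAction.stabilizer Y (4 : Fin 6)).index = 6 := by
      rw [MulAction.index_stabilizer, horb, Set.ncard_univ, Nat.card_eq_fintype_card, Fintype.card_fin]
    have hc := (MulAction.stabilizer Y (4 : Fin 6)).card_mul_index
    rw [hidx] at hc
    have hle : Nat.card (MulAction.stabilizer Y (4 : Fin 6)) ≤ 4 := by
      have := Nat.le_of_dvd (by norm_num) hY
      omega
    set l := uList.filter fun u => u.1 4 = 4 with hl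
    have hlm : ∀ u ∈ l, u ∈ Y ∧ u.1 4 = 4 := fun u hu => by
      obtain ⟨h1, h2⟩ := List.mem_filter.1 hu
      exact ⟨hmem u h1, by simpa using h2⟩
    let f : Fin l.length → MulAction.stabilizer Y (4 : Fin 6) := fun i =>
      ⟨⟨l.get i, (hlm _ (List.get_mem l i)).1⟩, (hlm _ (List.get_mem l i)).2⟩
    have hinj : Function.Injective f := fun i j h =>
      (List.nodup_iff_injective_get.1 f6) (congrArg (fun z => (z.1 : A6)) h)
    have hbij : Function.Bijective f := hinj.bijective_of_nat_card_le (by rw [Nat.card_fin, f7]; exact hle)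
    obtain ⟨i, hi⟩ := hbij.2 ⟨⟨y, hy⟩, hy4⟩
    have hyl : l.get i = y := congrArg (fun z => (z.1 : A6)) hi
    rw [← hyl]
    exact f4 _ (List.mem_filter.1 (List.get_mem l i)).1 (hlm _ (List.get_mem l i)).2
  have h45 : ∀ y ∈ Y, y.1 5 = tri (y.1 4) := by
    intro y hy
    by_cases h : (y.1 4).val < 4
    · obtain ⟨u, hu, hux, huz⟩ := f3 _ h
      have h5 := hst (y⁻¹ * u * y) (mul_mem (mul_mem (inv_mem hy) (hmem u hu)) hy)
        (by simp [Equiv.Perm.mul_apply, hux])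
      have h6 : u.1 (y.1 5) = y.1 5 := by
        have := congrArg y.1 h5
        simpa [Equiv.Perm.mul_apply] using this
      exact (huz _ h6).resolve_left fun e => absurd (y.1.injective e) (by decide)
    · obtain ⟨u, hu, hu4⟩ := f1 _ (not_lt.1 h)
      have h5 := hst (u⁻¹ * y) (mul_mem (inv_mem (hmem u hu)) hy) (by simp [Equiv.Perm.mul_apply, ← hu4])
      have h6 : y.1 5 = u.1 5 := by
        have := congrArg u.1 h5
        simpa [Equiv.Perm.mul_apply] using this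
      rw [h6, ← hu4]
      rcases (show u.1 4 = 4 ∨ u.1 4 = 5 by rw [hu4]; omega) with e | e
      · rw [f4 u hu e, e, t4]
      · rw [f5 u hu e, e, t5]
  intro g hg
  rw [mem_Q₂]
  ext z
  obtain ⟨y, hy, rfl⟩ := htr z
  show ((g.1 (tri (y.1 4))) : ℕ) = (tri (g.1 (y.1 4)) : Fin 6)
  rw [← h45 y hy]
  exact congrArg Fin.val (h45 (g * y) (mul_mem hg hy))

theorem all_overgroups (Y : Subgroup A6) (hUY : U < Y) (hY : Y ≠ ⊤) : Y = Q₁ ∨ Y = Q₂ := by
  obtain ⟨hU, h1, h2, hA⟩ := card_facts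
  have h8 : 8 ∣ Nat.card Y := hU ▸ Subgroup.card_dvd_of_le hUY.le
  have hlt : 8 < Nat.card Y := hU ▸ by
    refine lt_of_le_of_ne (Subgroup.card_le_of_le hUY.le) fun e => hUY.ne ?_
    exact Subgroup.eq_of_le_of_card_ge hUY.le e.ge
  have hidx := Y.card_mul_index
  have h6 := index_ge_six hY
  rw [hA] at hidx
  have hle : Nat.card Y ≤ 60 := by nlinarith
  have key : ∀ Q : Subgroup A6, Nat.card Q = 24 → Y ≤ Q → Y = Q := fun Q hQ hYQ => by
    have hd := hQ ▸ Subgroup.card_dvd_of_le hYQ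
    obtain ⟨c, hc⟩ := h8
    refine Subgroup.eq_of_le_of_card_ge hYQ (le_of_eq ?_)
    rw [hQ]
    have hle := Nat.le_of_dvd (by norm_num) hd
    rw [hc] at hd hle hlt ⊢
    rcases (show c = 2 ∨ c = 3 by omega) with rfl | rfl <;> omega
  by_cases hpair : ∀ y ∈ Y, 4 ≤ (y.1 4).val ∧ 4 ≤ (y.1 5).val
  · refine Or.inl (key Q₁ h1 fun y hy => (mem_Q₁ y).2 (tr_facts _ ?_))
    obtain ⟨a, b⟩ := hpair y hy
    have hne : y.1 4 ≠ y.1 5 := fun e => absurd (y.1.injective e) (by decide)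
    revert a b hne
    generalize y.1 4 = i, y.1 5 = j
    decide +revert
  · refine Or.inr ?_
    obtain ⟨f1, f2, -⟩ := list_facts
    push Not at hpair
    obtain ⟨y, hy, hy'⟩ := hpair
    have hmove : ∃ z ∈ Y, (z.1 4).val < 4 := by
      by_cases h : 4 ≤ (y.1 4).val
      · obtain ⟨u, hu, hu5⟩ := f1 5 (by decide)
        exact ⟨y * u, mul_mem hy (hUY.le (uList_mem u hu)), by simp [Equiv.Perm.mul_apply, hu5]; exact hy' h⟩
      · exact ⟨y, hy, not_le.1 h⟩
    obtain ⟨z, hz, hz4⟩ := hmove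
    have htr : ∀ x : Fin 6, ∃ w ∈ Y, w.1 4 = x := fun x => by
      by_cases h : x.val < 4
      · obtain ⟨u, hu, hux⟩ := f2 _ x hz4 h
        exact ⟨u * z, mul_mem (hUY.le (uList_mem u hu)) hz, hux⟩
      · obtain ⟨u, hu, hux⟩ := f1 x (not_lt.1 h)
        exact ⟨u, hUY.le (uList_mem u hu), hux⟩
    have h24 : Nat.card Y ∣ 24 := by
      have horb : MulAction.orbit Y (4 : Fin 6) = Set.univ := Set.eq_univ_iff_forall.2 fun x => by
        obtain ⟨w, hw, hwx⟩ := htr x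
        exact ⟨⟨w, hw⟩, hwx⟩
      have h6' : 6 ∣ Nat.card Y := ⟨Nat.card (MulAction.stabilizer Y (4 : Fin 6)), by
        rw [mul_comm, ← (MulAction.stabilizer Y (4 : Fin 6)).card_mul_index, MulAction.index_stabilizer, horb,
          Set.ncard_univ, Nat.card_eq_fintype_card (α := Fin 6), Fintype.card_fin]⟩
      have h24' : 24 ∣ Nat.card Y := Nat.lcm_dvd h8 h6'
      obtain ⟨c, hc⟩ := h24'
      have : c = 1 ∨ c = 2 := by omega
      rcases this with rfl | rfl
      · rw [hc]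
      · rw [hc] at hidx; omega
    exact key Q₂ h2 (le_Q₂ hUY.le htr h24)

theorem main_facts : U < Q₁ ∧ U < Q₂ ∧ Q₁ ≠ ⊤ ∧ Q₂ ≠ ⊤ ∧ Q₁ ⊔ Q₂ = ⊤ ∧ ¬ 2 ∣ U.index ∧
    IsPGroup 2 U ∧ Subgroup.normalizer (U : Set A6) ≠ ⊤ := by
  obtain ⟨hU, h1, h2, hA⟩ := card_facts
  have hU' : Nat.card ↥(Q₁ ⊓ Q₂) = 8 := hU
  have hlt1 : U < Q₁ := lt_of_le_of_ne inf_le_left fun e => by rw [e] at hU; omega
  have hlt2 : U < Q₂ := lt_of_le_of_ne inf_le_right fun e => by rw [e] at hU; omega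
  have ht1 : Q₁ ≠ ⊤ := fun e => by rw [e, Subgroup.card_top] at h1; omega
  have ht2 : Q₂ ≠ ⊤ := fun e => by rw [e, Subgroup.card_top] at h2; omega
  refine ⟨hlt1, hlt2, ht1, ht2, ?_, ?_, IsPGroup.of_card (n := 3) (by rw [hU]; norm_num), fun h => ?_⟩
  · by_contra hne
    have hlt : U < Q₁ ⊔ Q₂ := lt_of_lt_of_le hlt1 le_sup_left
    rcases all_overgroups _ hlt hne with e | e
    · have h12 : Q₂ ≤ Q₁ := e ▸ le_sup_right
      have := Subgroup.card_le_of_le (le_inf h12 le_rfl : Q₂ ≤ U)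
      omega
    · have h12 : Q₁ ≤ Q₂ := e ▸ le_sup_left
      have := Subgroup.card_le_of_le (le_inf le_rfl h12 : Q₁ ≤ U)
      omega
  · have h := U.card_mul_index
    rw [hU, hA] at h
    omega
  · haveI : IsSimpleGroup A6 := alternatingGroup.isSimpleGroup (by simp)
    rcases Subgroup.Normal.eq_bot_or_eq_top (Subgroup.normalizer_eq_top_iff.1 h) with e | e
    · rw [e, Subgroup.card_bot] at hU; omega
    · rw [e, Subgroup.card_top] at hU; omega

end CfsgLib.PMinLie.AltSix
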