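import Cfsg.Agent.Lib.PMinLie.Main
import Cfsg.Agent.Lib.PSL2.MaxClassify

/-!
`PSL₂(8)` in characteristic three: the normaliser of a Sylow subgroup of order nine is maximal.
-/

set_option autoImplicit false
set_option linter.style.haveILetI false

namespace CfsgLib.PMinLie

open CfsgLib.PSL2

theorem isCoatom_normalizer_eight {G : Type*} [Group G] [Finite G] {F : Type} [Field F] [Fintype F]
    (hF : Fintype.card F = 8) (e : G ≃* Matrix.ProjectiveSpecialLinearGroup (Fin 2) F) (U : Sylow 3 G) :
    IsCoatom (Subgroup.normalizer ((U : Subgroup G) : Set G)) := by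
  classical
  haveI : Fact (Nat.Prime 3) := ⟨Nat.prime_three⟩
  have hG : Nat.card G = 504 := by
    have h := card_psl (F := F)
    rw [hF] at h
    norm_num at h
    rw [Nat.card_congr e.toEquiv, Nat.card_eq_fintype_card, h]
  have hU : Nat.card (U : Subgroup G) = 9 := by
    obtain ⟨k, hk⟩ := IsPGroup.iff_card.1 U.isPGroup'
    have h1 : 3 ^ 2 ∣ Nat.card (U : Subgroup G) := U.pow_dvd_card_of_pow_dvd_card (by rw [hG]; norm_num)
    have h2 : Nat.card (U : Subgroup G) ∣ 504 := hG ▸ Subgroup.card_subgroup_dvd_card _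
    rw [hk] at h1 h2 ⊢
    rw [Nat.pow_dvd_pow_iff_le_right (by norm_num)] at h1
    rcases eq_or_lt_of_le h1 with rfl | h3
    · norm_num
    · exact absurd ((pow_dvd_pow 3 h3).trans h2) (by norm_num)
  set N := Subgroup.normalizer ((U : Subgroup G) : Set G)
  have hUN : (U : Subgroup G) ≤ N := Subgroup.le_normalizer
  have hNtop : N ≠ ⊤ := by
    intro h
    haveI hn : (U : Subgroup G).Normal := Subgroup.normalizer_eq_top_iff.1 h
    haveI := Matrix.ProjectiveSpecialLinearGroup.rank_two_simple (F := F)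
      (by rw [Nat.card_eq_fintype_card, hF]; norm_num)
    haveI := e.isSimpleGroup
    rcases hn.eq_bot_or_eq_top with h' | h' <;> rw [h'] at hU
    · simp at hU
    · rw [Subgroup.card_top, hG] at hU; omega
  obtain ⟨M, hM, hNM⟩ := (eq_top_or_exists_le_coatom N).resolve_left hNtop
  suffices M ≤ N from (le_antisymm hNM this) ▸ hM
  have hcM : IsCoatom (M.map e.toMonoidHom) := (e.mapSubgroup.isCoatom_iff M).2 hM
  have h9 : 9 ∣ Nat.card M := hU ▸ Subgroup.card_dvd_of_le (hUN.trans hNM)
  have hcard : Nat.card (M.map e.toMonoidHom) = Nat.card M :=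
    (Nat.card_congr (M.equivMapOfInjective e.toMonoidHom e.injective).toEquiv).symm
  have h18 : Nat.card M = 18 := by
    rcases coatom_even (by rw [hF]; decide) (by rw [hF]; norm_num) hcM with h | ⟨⟨d⟩⟩ | ⟨⟨d⟩⟩ |
      ⟨F₀, i1, i2, r, hr, h2, hF₀, -⟩
    · rw [hcard, hF] at h; omega
    · have h := Nat.card_congr d.toEquiv
      rw [hcard, DihedralGroup.nat_card, hF] at h; omega
    · have h := Nat.card_congr d.toEquiv
      rw [hcard, DihedralGroup.nat_card, hF] at h; omega
    · exfalso
      rw [hF] at hF₀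
      have h1 := Fintype.one_lt_card (α := F₀)
      have h3 : 3 ^ 2 ≤ Fintype.card F₀ ^ r :=
        (Nat.pow_le_pow_left (by omega) 2).trans (Nat.pow_le_pow_right (by omega) hr.two_le)
      omega
  intro m hm
  have hnorm : ((U : Subgroup G).subgroupOf M).Normal := by
    refine Subgroup.normal_of_index_eq_two ?_
    have h := ((U : Subgroup G).subgroupOf M).card_mul_index
    rw [Nat.card_congr (Subgroup.subgroupOfEquivOfLe (hUN.trans hNM)).toEquiv, hU, h18] at h
    omega
  exact (Subgroup.normal_subgroupOf_iff_le_normalizer (hUN.trans hNM)).1 hnorm hm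

end CfsgLib.PMinLie
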