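import Cfsg.Agent.Lib.PMinLie.Pair
import Cfsg.Agent.S0283
import Cfsg.Agent.Lib.Recognition.PSU33.Instance
import Mathlib.GroupTheory.Sylow

/-!
The two overgroups of a Sylow 2-subgroup of `U₃(3)`, canonical in the Sylow subgroup: the centraliser of
its centre and the normaliser of the centraliser of its derived subgroup.
-/

set_option autoImplicit false
set_option linter.style.haveILetI false

namespace CfsgLib.PMinLie.UThree

open Matrix CfsgLib.Recog.SU33 CfsgLib.Recognition.PSU33 CfsgLib.Recognition.PSU33.Model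
open scoped commutatorElement

/-- A diagonal element. -/
def aM : Good := ⟨!![⟨0, 1⟩, ⟨0, 0⟩, ⟨0, 0⟩; ⟨0, 0⟩, ⟨0, 2⟩, ⟨0, 0⟩; ⟨0, 0⟩, ⟨0, 0⟩, ⟨1, 0⟩], by decide +kernel⟩

/-- A diagonal element. -/
def bM : Good := ⟨!![⟨1, 0⟩, ⟨0, 0⟩, ⟨0, 0⟩; ⟨0, 0⟩, ⟨0, 1⟩, ⟨0, 0⟩; ⟨0, 0⟩, ⟨0, 0⟩, ⟨0, 2⟩], by decide +kernel⟩

/-- A monomial involution. -/
def sM : Good := ⟨!![⟨0, 0⟩, ⟨1, 0⟩, ⟨0, 0⟩; ⟨1, 0⟩, ⟨0, 0⟩, ⟨0, 0⟩; ⟨0, 0⟩, ⟨0, 0⟩, ⟨2, 0⟩], by decide +kernel⟩

/-- A monomial element of order three. -/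
def pM : Good := ⟨!![⟨0, 0⟩, ⟨0, 0⟩, ⟨1, 0⟩; ⟨1, 0⟩, ⟨0, 0⟩, ⟨0, 0⟩; ⟨0, 0⟩, ⟨1, 0⟩, ⟨0, 0⟩], by decide +kernel⟩

/-- An element of the stabiliser of a point which is not monomial. -/
def gM : Good := ⟨!![⟨1, 1⟩, ⟨1, 1⟩, ⟨0, 0⟩; ⟨2, 1⟩, ⟨1, 2⟩, ⟨0, 0⟩; ⟨0, 0⟩, ⟨0, 0⟩, ⟨1, 0⟩], by decide +kernel⟩

/-- The diagonal elements. -/
def diagList : List Good :=
  (List.range 4).flatMap fun i => (List.range 4).map fun j => aM ^ i * bM ^ j

/-- The elements of the Sylow subgroup. -/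
def uList : List Good := diagList ++ diagList.map (· * sM)

theorem closed_gens : ∀ x ∈ uList, x * aM ∈ uList ∧ x * bM ∈ uList ∧ x * sM ∈ uList := by decide +kernel

theorem closed : (∀ x ∈ uList, ∀ y ∈ uList, x * y ∈ uList) ∧ (∀ x ∈ uList, x⁻¹ ∈ uList) ∧
    (1 : Good) ∈ uList := by
  refine ⟨fun x hx y hy => ?_, by decide +kernel, by decide +kernel⟩
  let M : Submonoid Good :=
    { carrier := {g | ∀ z ∈ uList, z * g ∈ uList}
      one_mem' := fun z hz => by rwa [mul_one]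
      mul_mem' := fun {g h} hg hh z hz => by rw [← mul_assoc]; exact hh _ (hg z hz) }
  have ha : aM ∈ M := fun z hz => (closed_gens z hz).1
  have hb : bM ∈ M := fun z hz => (closed_gens z hz).2.1
  have hs : sM ∈ M := fun z hz => (closed_gens z hz).2.2
  have hd : ∀ d ∈ diagList, d ∈ M := fun d hd => by
    simp only [diagList, List.mem_flatMap, List.mem_map] at hd
    obtain ⟨i, -, j, -, rfl⟩ := hd
    exact mul_mem (pow_mem ha i) (pow_mem hb j)
  suffices hy' : y ∈ M from hy' x hx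
  rcases List.mem_append.1 hy with h | h
  · exact hd y h
  · obtain ⟨d, hd', rfl⟩ := List.mem_map.1 h
    exact mul_mem (hd d hd') hs

/-- The Sylow subgroup. -/
def U0 : Subgroup Good where
  carrier := {x | x ∈ uList}
  one_mem' := closed.2.2
  mul_mem' ha hb := closed.1 _ ha _ hb
  inv_mem' ha := closed.2.1 _ ha

theorem words : aM * pM * gM * pM * bM * gM * pM * sM = u1M ∧ pM * sM * gM * pM * gM * pM * bM * sM = u2M ∧
    aM * gM * bM * gM = tM ∧ bM * sM = wM := by decide +kernel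

theorem centre_check : ∀ x ∈ uList, (∀ y ∈ uList, x * y = y * x) → gM * x = x * gM := by decide +kernel

theorem diag_comm : ∀ x ∈ diagList, ∀ y ∈ diagList, x * y = y * x := by decide +kernel

theorem swap_diag : sM * sM = 1 ∧ ∀ x ∈ diagList, sM * x * sM ∈ diagList := by decide +kernel

/-- Commutators of the Sylow subgroup centralise the diagonal elements. -/
theorem comm_centralizes {u v : Good} (hu : u ∈ uList) (hv : v ∈ uList) :
    u * v * u⁻¹ * v⁻¹ ∈ Subgroup.centralizer ({x | x ∈ diagList} : Set Good) := by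
  set C := Subgroup.centralizer ({x | x ∈ diagList} : Set Good)
  have hsi : sM⁻¹ = sM := inv_eq_of_mul_eq_one_right swap_diag.1
  have hd : ∀ d ∈ diagList, d ∈ C := fun d hd =>
    Subgroup.mem_centralizer_iff.2 fun x hx => diag_comm x hx d hd
  have hs : ∀ c ∈ C, sM * c * sM⁻¹ ∈ C := fun c hc => Subgroup.mem_centralizer_iff.2 fun x hx => by
    have h := (Subgroup.mem_centralizer_iff.1 hc) _ (swap_diag.2 x hx)
    calc x * (sM * c * sM⁻¹) = sM * (sM * x * sM * c) * sM⁻¹ := by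
          simp only [mul_assoc]; rw [← mul_assoc sM sM, swap_diag.1, one_mul]
      _ = sM * (c * (sM * x * sM)) * sM⁻¹ := by rw [h]
      _ = sM * c * sM⁻¹ * x := by rw [hsi]; simp only [mul_assoc]; rw [swap_diag.1, mul_one]
  rcases List.mem_append.1 hu with hu | hu <;> rcases List.mem_append.1 hv with hv | hv
  · exact mul_mem (mul_mem (mul_mem (hd u hu) (hd v hv)) (inv_mem (hd u hu))) (inv_mem (hd v hv))
  · obtain ⟨d', hd', rfl⟩ := List.mem_map.1 hv
    rw [show u * (d' * sM) * u⁻¹ * (d' * sM)⁻¹ = u * d' * (sM * u⁻¹ * sM⁻¹) * d'⁻¹ by group]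
    exact mul_mem (mul_mem (mul_mem (hd u hu) (hd _ hd')) (hs _ (inv_mem (hd u hu)))) (inv_mem (hd _ hd'))
  · obtain ⟨d, hd', rfl⟩ := List.mem_map.1 hu
    rw [show d * sM * v * (d * sM)⁻¹ * v⁻¹ = d * (sM * v * sM⁻¹) * d⁻¹ * v⁻¹ by group]
    exact mul_mem (mul_mem (mul_mem (hd _ hd') (hs _ (hd v hv))) (inv_mem (hd _ hd'))) (inv_mem (hd v hv))
  · obtain ⟨d, hd1, rfl⟩ := List.mem_map.1 hu
    obtain ⟨d', hd2, rfl⟩ := List.mem_map.1 hv
    rw [show d * sM * (d' * sM) * (d * sM)⁻¹ * (d' * sM)⁻¹ = d * (sM * (d' * d⁻¹) * sM⁻¹) * d'⁻¹ by group]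
    exact mul_mem (mul_mem (hd _ hd1) (hs _ (mul_mem (hd _ hd2) (inv_mem (hd _ hd1))))) (inv_mem (hd _ hd2))

theorem comm_base : ∀ x ∈ uList, x * (bM * sM * bM⁻¹ * sM⁻¹) = bM * sM * bM⁻¹ * sM⁻¹ * x → x ∈ diagList := by
  decide +kernel

theorem diag_conj : ∀ x ∈ diagList, x ∈ uList ∧ pM * x * pM⁻¹ ∈ diagList ∧ pM⁻¹ * x * pM ∈ diagList := by
  decide +kernel

theorem gens_mem : aM ∈ uList ∧ sM ∈ uList ∧ bM ∈ uList := by decide +kernel

theorem card_U0 : Nat.card U0 = 32 := by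
  have hnd : uList.Nodup ∧ uList.length = 32 := by decide +kernel
  show Nat.card {x : Good // x ∈ uList} = 32
  rw [← hnd.2, ← List.toFinset_card_of_nodup hnd.1,
    ← Nat.card_eq_finsetCard uList.toFinset]
  exact Nat.card_congr (Equiv.subtypeEquivRight fun x => List.mem_toFinset.symm)

/-- The centraliser of the derived subgroup of `U`, inside `U`. -/
abbrev base {G : Type*} [Group G] (U : Subgroup G) : Subgroup G :=
  U ⊓ Subgroup.centralizer ((⁅U, U⁆ : Subgroup G) : Set G)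

/-- The centre of `U`. -/
abbrev centre {G : Type*} [Group G] (U : Subgroup G) : Subgroup G :=
  U ⊓ Subgroup.centralizer (U : Set G)

theorem mem_base {x : Good} : x ∈ base U0 ↔ x ∈ diagList := by
  constructor
  · rintro ⟨hx, hc⟩
    refine comm_base x hx ?_
    have h : ⁅bM, sM⁆ ∈ ⁅U0, U0⁆ := Subgroup.commutator_mem_commutator gens_mem.2.2 gens_mem.2.1
    rw [commutatorElement_def] at h
    exact ((Subgroup.mem_centralizer_iff.1 hc) _ h).symm
  · intro hx
    refine ⟨(diag_conj x hx).1, Subgroup.mem_centralizer_iff.2 fun y hy => ?_⟩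
    have hle : ⁅U0, U0⁆ ≤ Subgroup.centralizer ({x} : Set Good) := Subgroup.commutator_le.2 fun u hu v hv => by
      rw [Subgroup.mem_centralizer_singleton_iff, commutatorElement_def]
      exact ((Subgroup.mem_centralizer_iff.1 (comm_centralizes hu hv)) x hx).symm
    exact Subgroup.mem_centralizer_singleton_iff.1 (hle hy)

theorem pM_mem : pM ∈ Subgroup.normalizer ((base U0 : Subgroup Good) : Set Good) := by
  refine Subgroup.mem_normalizer_iff.2 fun x => ⟨fun hx => ?_, fun hx => ?_⟩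
  · exact mem_base.2 (diag_conj x (mem_base.1 hx)).2.1
  · have h := (diag_conj _ (mem_base.1 hx)).2.2
    rw [show pM⁻¹ * (pM * x * pM⁻¹) * pM = x by group] at h
    exact mem_base.2 h

theorem gM_mem : gM ∈ Subgroup.centralizer ((centre U0 : Subgroup Good) : Set Good) := by
  refine Subgroup.mem_centralizer_iff.2 fun x hx' => ?_
  obtain ⟨hx, hc⟩ := Subgroup.mem_inf.1 hx'
  exact (centre_check x hx fun y hy => ((Subgroup.mem_centralizer_iff.1 hc) y hy).symm).symm

/-- The model generates `SU(3,3)`. -/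
theorem map_eq_top {F : Type*} [Field F] [Fintype F] [CharP F 3] (hF : Fintype.card F = 9)
    (φ : F9 →+* F) (hφ : Function.Injective φ) {Y : Subgroup Good} (hι0 : ∀ h, iota h ∈ Y) (ht : tM ∈ Y)
    (hw : wM ∈ Y) : Y.map (toSU φ) = ⊤ := by
  classical
  let D := dataSU hF φ hφ
  haveI : Finite (Cfsg.SU 3 F 3) := Nat.finite_of_card_ne_zero (by rw [card_SU33 hF]; norm_num)
  set H := Y.map (toSU φ)
  have hι : ∀ h, D.ι h ∈ H := fun h => ⟨iota h, hι0 h, rfl⟩
  have hΦ : ∀ b, D.Φ b ∈ H := fun b => by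
    rw [Data.Φ_apply]; exact mul_mem (hι _) (pow_mem (show D.t ∈ H from ⟨tM, ht, rfl⟩) _)
  have hS : ∀ b, D.Φ b ∈ D.S := fun b => by
    rw [Data.Φ_apply]; exact mul_mem (D.ι_mem _) (pow_mem D.t_mem _)
  let f : H3 × BB → H := fun x => ⟨D.ι x.1 * D.w * D.Φ x.2, mul_mem (mul_mem (hι _) (show D.w ∈ H from ⟨wM, hw, rfl⟩)) (hΦ _)⟩
  have hf : Function.Injective f := by
    rintro ⟨h, b⟩ ⟨h', b'⟩ e
    have e' : D.ι h * D.w * D.Φ b = D.ι h' * D.w * D.Φ b' := congrArg Subtype.val e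
    have h0 : h'⁻¹ * h = 1 := D.w_conj _ (by
      have e2 : D.w⁻¹ * D.ι (h'⁻¹ * h) * D.w = D.Φ b' * (D.Φ b)⁻¹ := by
        rw [map_mul, map_inv]
        calc _ = D.w⁻¹ * (D.ι h')⁻¹ * (D.ι h * D.w * D.Φ b) * (D.Φ b)⁻¹ := by group
          _ = _ := by rw [e']; group
      rw [e2]; exact mul_mem (hS _) (inv_mem (hS _)))
    obtain rfl := (inv_mul_eq_one.1 h0).symm
    rw [D.Φ_injective (mul_left_cancel e')]
  have h2 : 5832 ≤ Nat.card H := by
    refine le_trans ?_ (Nat.card_le_card_of_injective f hf)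
    rw [Nat.card_prod, H3.card_eq]
    have : Nat.card BB = 216 := by
      show Nat.card (_ ⋊[_] _) = 216
      rw [SemidirectProduct.card, H3.card_eq]
      simp
    rw [this]
  have h3 := H.card_mul_index
  rw [show Nat.card (Cfsg.SU 3 F 3) = 6048 from card_SU33 hF] at h3
  refine Subgroup.index_eq_one.1 ?_
  rcases Nat.lt_or_ge H.index 2 with h4 | h4
  · rcases Nat.eq_zero_or_pos H.index with h5 | h5
    · rw [h5] at h3; omega
    · omega
  · have := Nat.mul_le_mul h2 h4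
    omega

theorem toSU_surjective {F : Type*} [Field F] [Fintype F] [CharP F 3] (hF : Fintype.card F = 9)
    (φ : F9 →+* F) (hφ : Function.Injective φ) : Function.Surjective (toSU φ) := fun y => by
  obtain ⟨x, -, e⟩ := (map_eq_top hF φ hφ (Y := ⊤) (fun _ => trivial) trivial trivial).ge (Subgroup.mem_top y)
  exact ⟨x, e⟩

theorem generates {F : Type*} [Field F] [Fintype F] [CharP F 3] (hF : Fintype.card F = 9)
    (φ : F9 →+* F) (hφ : Function.Injective φ) :
    Subgroup.centralizer ((centre U0 : Subgroup Good) : Set Good) ⊔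
      Subgroup.normalizer ((base U0 : Subgroup Good) : Set Good) = ⊤ := by
  set Y := Subgroup.centralizer ((centre U0 : Subgroup Good) : Set Good) ⊔
    Subgroup.normalizer ((base U0 : Subgroup Good) : Set Good)
  have hU : U0 ≤ Y := fun u hu => Subgroup.mem_sup_left
    (Subgroup.mem_centralizer_iff.2 fun x hx =>
      ((Subgroup.mem_centralizer_iff.1 (Subgroup.mem_inf.1 hx).2) u hu).symm)
  obtain ⟨ha, hs, hb⟩ := gens_mem
  have hp : pM ∈ Y := Subgroup.mem_sup_right pM_mem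
  have hg : gM ∈ Y := Subgroup.mem_sup_left gM_mem
  have ha' := hU ha
  have hs' := hU hs
  have hb' := hU hb
  obtain ⟨w1, w2, w3, w4⟩ := words
  have h1 : u1M ∈ Y := by rw [← w1]; exact (mul_mem (mul_mem (mul_mem (mul_mem (mul_mem (mul_mem (mul_mem ha' hp) hg) hp) hb') hg) hp) hs')
  have h2 : u2M ∈ Y := by rw [← w2]; exact (mul_mem (mul_mem (mul_mem (mul_mem (mul_mem (mul_mem (mul_mem hp hs') hg) hp) hg) hp) hb') hs')
  have h3 : tM ∈ Y := by rw [← w3]; exact (mul_mem (mul_mem (mul_mem ha' hg) hb') hg)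
  have h4 : wM ∈ Y := by rw [← w4]; exact (mul_mem hb' hs')
  have hι : ∀ h, iota h ∈ Y := fun h => by
    show iotaFun h ∈ Y
    have hz : zM ∈ Y := by
      have : u2M * u1M * u2M⁻¹ * u1M⁻¹ = zM := by decide +kernel
      rw [← this]
      exact mul_mem (mul_mem (mul_mem h2 h1) (inv_mem h2)) (inv_mem h1)
    exact mul_mem (mul_mem (pow_mem h1 _) (pow_mem h2 _)) (pow_mem hz _)
  refine top_le_iff.1 fun x _ => ?_
  have hmap := map_eq_top hF φ hφ hι h3 h4
  obtain ⟨y, hy, e⟩ := hmap.ge (Subgroup.mem_top (toSU φ x))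
  rwa [← toSU_injective φ hφ e]

theorem map_conj_self {G : Type*} [Group G] [Finite G] (H : Subgroup G) {g : G} (hg : g ∈ H) :
    H.map (MulAut.conj g).toMonoidHom = H := by
  refine Subgroup.eq_of_le_of_card_ge ?_
    (le_of_eq (Nat.card_congr (H.equivMapOfInjective _ (MulAut.conj g).injective).toEquiv))
  rintro _ ⟨x, hx, rfl⟩
  exact mul_mem (mul_mem hg hx) (inv_mem hg)

theorem pair_psu {K : Type*} [Group K] {F : Type} [Field F] [Fintype F] (hF : Fintype.card F = 9)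
    (e : K ≃* Cfsg.PSU 3 F 3) : Pair 2 K := by
  classical
  haveI : Fact (Nat.Prime 2) := ⟨Nat.prime_two⟩
  haveI : Fact (Nat.Prime 3) := ⟨Nat.prime_three⟩
  haveI : CharP F 3 := charP_of_card_eq_prime_pow (f := 2) (by norm_num [hF])
  obtain ⟨φ, hφ⟩ := exists_hom hF
  let e' : Good ≃* Cfsg.PSU 3 F 3 :=
    (MulEquiv.ofBijective (toSU φ) ⟨toSU_injective φ hφ.1, toSU_surjective hF φ hφ.1⟩).trans
      (psuEquivSU φ).symm
  refine Pair.of_equiv ?_ (e.trans e'.symm)
  haveI : IsSimpleGroup Good := by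
    haveI : IsSimpleGroup (Cfsg.PSU 3 F 3) :=
      Cfsg.Agent.S0283.result (F := F) (q := 3) (by rw [hF]; norm_num) 3 le_rfl (by norm_num)
    exact e'.isSimpleGroup
  haveI : Finite Good := Finite.of_injective _ (toSU_injective φ hφ.1)
  have hcard : Nat.card Good = 6048 := by
    rw [Nat.card_congr (MulEquiv.ofBijective (toSU φ)
      ⟨toSU_injective φ hφ.1, toSU_surjective hF φ hφ.1⟩).toEquiv, card_SU33 hF]
  have hidx : U0.index = 189 := by
    have h := U0.card_mul_index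
    rw [card_U0, hcard] at h
    omega
  have hnormal : ∀ A : Subgroup Good, A ≤ U0 → A.Normal → A = ⊥ := fun A hA hn =>
    hn.eq_bot_or_eq_top.resolve_right fun h => by
      have := (top_le_iff.1 (h ▸ hA) : U0 = ⊤)
      rw [this, Subgroup.index_top] at hidx
      omega
  have hp : IsPGroup 2 U0 := IsPGroup.of_card (n := 5) (by rw [card_U0]; norm_num)
  have hA : aM ∈ base U0 := mem_base.2 (by decide +kernel)
  have hA1 : aM ≠ 1 := by decide +kernel
  haveI : Nontrivial U0 := Finite.one_lt_card_iff_nontrivial.1 (by rw [card_U0]; norm_num)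
  haveI := hp.center_nontrivial
  obtain ⟨⟨z, hz⟩, hz1⟩ := exists_ne (1 : Subgroup.center U0)
  have hzc : (z : Good) ∈ centre U0 := Subgroup.mem_inf.2 ⟨z.2, Subgroup.mem_centralizer_iff.2 fun y hy =>
    congrArg Subtype.val (Subgroup.mem_center_iff.1 hz ⟨y, hy⟩)⟩
  have hbase : base U0 ≤ U0 := inf_le_left
  refine ⟨U0, Subgroup.centralizer ((centre U0 : Subgroup Good) : Set Good),
    Subgroup.normalizer ((base U0 : Subgroup Good) : Set Good), hp, by rw [hidx]; norm_num, ?_, ?_, ?_, ?_, ?_,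
    generates hF φ hφ.1, fun α hα => ?_⟩
  · intro h
    have h1 := hnormal U0 le_rfl (Subgroup.normalizer_eq_top_iff.1 h)
    have h2 := card_U0
    rw [h1, Subgroup.card_bot] at h2
    omega
  · exact fun u hu => Subgroup.mem_centralizer_iff.2 fun x hx =>
      ((Subgroup.mem_centralizer_iff.1 (Subgroup.mem_inf.1 hx).2) u hu).symm
  · intro u hu
    have key : ∀ g ∈ U0, ∀ x ∈ base U0, g * x * g⁻¹ ∈ base U0 := fun g hg x hx => by
      exact (canonical (MulAut.conj g) (map_conj_self U0 hg)).2.le ⟨x, hx, rfl⟩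
    refine Subgroup.mem_normalizer_iff.2 fun x => ⟨key u hu x, fun hx => ?_⟩
    simpa [mul_assoc] using key u⁻¹ (inv_mem hu) _ hx
  · intro h
    refine hz1 (Subtype.ext (Subtype.ext ?_))
    have h2 : (centre U0 : Set Good) ⊆ Subgroup.center Good :=
      Subgroup.centralizer_eq_top_iff_subset.1 h
    have h3 : Subgroup.center Good = ⊥ := (Subgroup.Normal.eq_bot_or_eq_top inferInstance).resolve_right
      fun h => absurd (Subgroup.mem_center_iff.1 (h ▸ Subgroup.mem_top aM) pM) (by decide +kernel)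
    exact (Subgroup.mem_bot).1 (h3 ▸ h2 hzc)
  · intro h
    exact hA1 (Subgroup.mem_bot.1 (hnormal _ hbase (Subgroup.normalizer_eq_top_iff.1 h) ▸ hA))
  · obtain ⟨c1, c2⟩ := canonical α hα
    exact ⟨map_centralizer_le α c1, map_normalizer_le α c2⟩

end CfsgLib.PMinLie.UThree
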