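import Cfsg.Agent.Lib.PMinLie.Lie
import Cfsg.Agent.Lib.PMinLie.Eight
import Cfsg.Agent.Lib.PMinLie.AltSix
import Cfsg.Agent.Lib.PMinLie.USix
import Cfsg.Agent.Lib.PMinLie.Tits
import Cfsg.Prelude.Def_EvenType

/-!
The `p`-minimal groups over a normal simple group of Lie type.
-/

set_option autoImplicit false
set_option linter.style.haveILetI false

namespace CfsgLib.PMinLie

variable {X : Type*} [Group X] [Finite X] {p : ℕ} [Fact p.Prime] (K : Subgroup X) [K.Normal]

omit [K.Normal] in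
/-- The maximality of the normaliser does not depend on the Sylow subgroup. -/
theorem isCoatom_normalizer_sylow (U V : Sylow p K)
    (h : IsCoatom (Subgroup.normalizer (((U : Subgroup K).map K.subtype : Subgroup X) : Set X))) :
    IsCoatom (Subgroup.normalizer (((V : Subgroup K).map K.subtype : Subgroup X) : Set X)) := by
  obtain ⟨k, hk⟩ := MulAction.exists_smul_eq K U V
  let φ : MulAut X := MulAut.conj (k : X)
  have hVU : (V : Subgroup K).map K.subtype = ((U : Subgroup K).map K.subtype).map φ.toMonoidHom := by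
    rw [← hk, Sylow.coe_subgroup_smul]
    ext x
    simp only [Subgroup.mem_map, Subgroup.mem_pointwise_smul_iff_inv_smul_mem]
    constructor
    · rintro ⟨y, hy, rfl⟩
      refine ⟨_, ⟨_, hy, rfl⟩, ?_⟩
      simp [φ, mul_assoc]
    · rintro ⟨_, ⟨y, hy, rfl⟩, rfl⟩
      refine ⟨MulAut.conj k • y, by simpa [mul_assoc] using hy, ?_⟩
      simp [φ]
  have hN : Subgroup.normalizer (((V : Subgroup K).map K.subtype : Subgroup X) : Set X) =
      (Subgroup.normalizer (((U : Subgroup K).map K.subtype : Subgroup X) : Set X)).map φ.toMonoidHom := by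
    rw [Subgroup.map_normalizer_eq_of_bijective _ (f := φ.toMonoidHom) φ.bijective, hVU]
  rw [hN]
  exact (φ.mapSubgroup.isCoatom_iff _).2 h

theorem conclusion (hX : Cfsg.IsPMinimal p X) (hK : Cfsg.IsChevSimple p K) (U : Sylow p K) :
    IsCoatom (Subgroup.normalizer (((U : Subgroup K).map K.subtype : Subgroup X) : Set X)) ∧
      (Cfsg.IsLieRankOneChar p K ∨ (p = 2 ∧ K ≠ ⊤ ∧ RankTwoListed K)) := by
  have finish : ∀ (U₀ : Subgroup K) (hp : IsPGroup p U₀) (hi : ¬ p ∣ U₀.index),
      IsCoatom (Subgroup.normalizer ((U₀.map K.subtype : Subgroup X) : Set X)) →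
      IsCoatom (Subgroup.normalizer (((U : Subgroup K).map K.subtype : Subgroup X) : Set X)) :=
    fun U₀ hp hi h => isCoatom_normalizer_sylow K (hp.toSylow hi) U h
  rcases hK with hL | ⟨rfl, ⟨⟨e⟩⟩ | ⟨F, i1, i2, hF, ⟨e⟩⟩ | ⟨⟨e⟩⟩⟩ | ⟨rfl, F, i1, i2, hF, ⟨e⟩⟩
  · obtain ⟨P, U₀, H, hU, hb, h1, h2⟩ := fam_lieType hL
    obtain ⟨hco, hr⟩ := main K hX H hU hb
    refine ⟨finish U₀ H.pGroup hU hco, ?_⟩
    rcases hr with hr | ⟨hr, hp, hKtop, α, hα, s, t, hne, hst⟩
    · exact Or.inl (h1 hr)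
    · exact Or.inr ⟨hp, hKtop, (h2 hr hp).resolve_left fun hn => hne (hn α hα s t hst)⟩
  · let f := e.symm.toMonoidHom
    have hinj : Function.Injective f := e.symm.injective
    obtain ⟨hU1, hU2, ht1, ht2, hsup, hidx, hp, hn⟩ := AltSix.main_facts
    have htop : (⊤ : Subgroup AltSix.A6).map f = ⊤ := Subgroup.map_top_of_surjective f e.symm.surjective
    have hp' := hp.map f
    have hidx' : ¬ 2 ∣ (AltSix.U.map f).index := by
      rwa [Subgroup.index_map_of_bijective (f := f) e.symm.bijective]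
    have hlt : ∀ {A B : Subgroup AltSix.A6}, A < B → A.map f < B.map f :=
      fun h => (Subgroup.map_lt_map_iff_of_injective hinj).2 h
    have hne : ∀ {A : Subgroup AltSix.A6}, A ≠ ⊤ → A.map f ≠ ⊤ :=
      fun hA h => hA (Subgroup.map_injective hinj (h.trans htop.symm))
    obtain ⟨hco, hKtop⟩ := of_two_overgroups K hX hp' hidx'
      (fun h => hn (Subgroup.map_injective hinj (by
        rw [Subgroup.map_normalizer_eq_of_bijective _ (f := f) e.symm.bijective, h, htop])))
      (hlt hU1) (hlt hU2) (hne ht1) (hne ht2) (by rw [← Subgroup.map_sup, hsup, htop]) fun Y hY hY' => by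
        have hY2 : (Y.map e.toMonoidHom).map f = Y := by
          rw [Subgroup.map_map, show f.comp e.toMonoidHom = MonoidHom.id K from
            MonoidHom.ext e.symm_apply_apply, Subgroup.map_id]
        rw [← hY2] at hY hY' ⊢
        rcases AltSix.all_overgroups _ ((Subgroup.map_lt_map_iff_of_injective hinj).1 hY)
            (fun h => hY' (h ▸ htop)) with h | h <;> rw [h]
        exacts [Or.inl rfl, Or.inr rfl]
    exact ⟨finish _ hp' hidx' hco, Or.inr ⟨rfl, hKtop, Or.inr (Or.inr ⟨e⟩)⟩⟩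
  · exact (false_of_pair K hX (UThree.pair_psu hF e)).elim
  · exact (false_of_pair K hX (Tits.pair_tits.of_equiv e)).elim
  · refine ⟨?_, Or.inl (Or.inr (Or.inr (Or.inr ⟨rfl, Or.inr ⟨F, i1, i2, hF, ⟨e⟩⟩⟩)))⟩
    exact isCoatom_normalizer K U.isPGroup' U.not_dvd_index (isCoatom_normalizer_eight hF e U)

end CfsgLib.PMinLie
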