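import Cfsg.Agent.Lib.PMinLie.Sylow
import Cfsg.Prelude.Def_AlmostLie

/-!
What the classification of the `p`-minimal groups over a group of Lie type uses of the group.
-/

set_option autoImplicit false

namespace CfsgLib.PMinLie

open CfsgLib.BNPair CfsgLib.CoprimeFix

/-- The groups of rank two that occur. -/
def RankTwoListed (G : Type*) [Group G] : Prop :=
  (∃ (F : Type) (_ : Field F) (_ : Fintype F) (_ : CharP F 2),
      Nonempty (G ≃* Matrix.ProjectiveSpecialLinearGroup (Fin 3) F)) ∨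
    (∃ (F : Type) (_ : Field F) (_ : Fintype F) (_ : CharP F 2),
      4 ≤ Fintype.card F ∧ Nonempty (G ≃* Cfsg.PSp 2 F)) ∨
    Nonempty (G ≃* ↥(alternatingGroup (Fin 6)))

theorem RankTwoListed.of_equiv {G H : Type*} [Group G] [Group H] (h : RankTwoListed H) (e : G ≃* H) :
    RankTwoListed G := by
  rcases h with ⟨F, i1, i2, i3, ⟨f⟩⟩ | ⟨F, i1, i2, i3, h4, ⟨f⟩⟩ | h'
  · exact Or.inl ⟨F, i1, i2, i3, ⟨e.trans f⟩⟩
  · exact Or.inr (Or.inl ⟨F, i1, i2, i3, h4, ⟨e.trans f⟩⟩)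
  · obtain ⟨f⟩ := h'
    exact Or.inr (Or.inr ⟨e.trans f⟩)

theorem rankOne_of_equiv {G H : Type*} [Group G] [Group H] {p : ℕ}
    (h : Cfsg.IsLieRankOneChar p H) (e : G ≃* H) : Cfsg.IsLieRankOneChar p G := by
  rcases h with ⟨F, i1, i2, i3, h4, ⟨f⟩⟩ | ⟨F, i1, i2, i3, q, h1, h2, ⟨f⟩⟩ |
    ⟨hp, F, i1, i2, m, hm, hF, ⟨f⟩⟩ | ⟨hp, ⟨F, i1, i2, m, hm, hF, ⟨f⟩⟩ | ⟨F, i1, i2, h8, ⟨f⟩⟩⟩
  · exact Or.inl ⟨F, i1, i2, i3, h4, ⟨e.trans f⟩⟩
  · exact Or.inr (Or.inl ⟨F, i1, i2, i3, q, h1, h2, ⟨e.trans f⟩⟩)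
  · exact Or.inr (Or.inr (Or.inl ⟨hp, F, i1, i2, m, hm, hF, ⟨e.trans f⟩⟩))
  · exact Or.inr (Or.inr (Or.inr ⟨hp, Or.inl ⟨F, i1, i2, m, hm, hF, ⟨e.trans f⟩⟩⟩))
  · exact Or.inr (Or.inr (Or.inr ⟨hp, Or.inr ⟨F, i1, i2, h8, ⟨e.trans f⟩⟩⟩))

/-- A split `(B, N)`-pair with the facts that decide the case. -/
def Fam (p : ℕ) (G : Type*) [Group G] : Prop :=
  ∃ (P : Cfsg.BNPair G) (U : Subgroup G), SplitHyp p P U ∧ ¬ p ∣ U.index ∧
    (3 ≤ P.rank → Branch P) ∧ (P.rank = 1 → Cfsg.IsLieRankOneChar p G) ∧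
    (P.rank = 2 → p = 2 → NoSwap P U ∨ RankTwoListed G)

/-- A family from data on a covering group. -/
theorem fam_quot {p : ℕ} {G G' : Type*} [Group G] [Group G'] [Finite G] {P : Cfsg.BNPair G}
    {U : Subgroup G} (H : SplitHyp p P U) (hU : ¬ p ∣ U.index) (hb : 3 ≤ P.rank → Branch P)
    {f : G →* G'} (hf : Function.Surjective f) (hker : f.ker ≤ P.B)
    (h1 : P.rank = 1 → Cfsg.IsLieRankOneChar p G')
    (h2 : P.rank = 2 → p = 2 → Unequal P ∨ RankTwoListed G') : Fam p G' := by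
  refine ⟨_, _, H.quot hf hker, not_dvd_index_map hf hker hU, ?_, ?_, ?_⟩
  all_goals rw [rank_quot hf hker]
  · exact fun h => branch_quot hf hker (hb h)
  · exact h1
  · exact fun hr hp => (h2 hr hp).imp_left fun h => (unequal_quot hf hker h).noSwap _

theorem Fam.of_equiv {p : ℕ} {G G' : Type*} [Group G] [Group G'] (h : Fam p G) (e : G' ≃* G) :
    Fam p G' := by
  obtain ⟨P, U, H, hU, hb, h1, h2⟩ := h
  have hker : e.symm.toMonoidHom.ker ≤ P.B := by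
    rw [(MonoidHom.ker_eq_bot_iff _).2 e.symm.injective]; exact bot_le
  refine ⟨_, _, H.quot (f := e.symm.toMonoidHom) e.symm.surjective hker,
    not_dvd_index_map e.symm.surjective hker hU, ?_, ?_, ?_⟩
  all_goals rw [rank_quot e.symm.surjective hker]
  · exact fun h => branch_quot e.symm.surjective hker (hb h)
  · exact fun hr => rankOne_of_equiv (h1 hr) e
  · exact fun hr hp => (h2 hr hp).imp (noSwap_equiv e.symm hker) fun h => h.of_equiv e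

end CfsgLib.PMinLie
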