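import Cfsg.Agent.Lib.PMinLie.Matrix
import Cfsg.Agent.Lib.PMinLie.Family
import Cfsg.Agent.Lib.CoprimeFix.ClassicalSL
import Cfsg.Agent.Lib.CoprimeFix.ClassicalSp
import Cfsg.Prelude.Def_LieTypeChar

/-!
The projective special linear and symplectic groups.
-/

set_option autoImplicit false

namespace CfsgLib.PMinLie

open Matrix CfsgLib.BNPair CfsgLib.CoprimeFix

variable {p : ℕ} [Fact p.Prime] {G : Type*} [Group G]

theorem not_commute_of_apply {α : Type*} {σ τ : Equiv.Perm α} (x : α) (h : σ (τ x) ≠ τ (σ x)) :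
    ¬ Commute σ τ := fun e => h (DFunLike.congr_fun e.eq x)

theorem fam_psl (h : Cfsg.IsPSLChar p G) : Fam p G := by
  obtain ⟨F, i1, i2, i3, k, hk, h4, ⟨e⟩⟩ := h
  refine Fam.of_equiv ?_ e
  obtain ⟨n, rfl⟩ : ∃ n, k = n + 1 := ⟨k - 1, by omega⟩
  have hn : 1 ≤ n := by omega
  let D := ClassicalSL.data (F := F) (n := n) hn
  let ee : SpecialLinearGroup (Fin (n + 1)) F ≃* ↥(ClassicalSL.grp F n) :=
    MonoidHom.ofInjective SpecialLinearGroup.toGL_injective
  let f : ↥(ClassicalSL.grp F n) →* ProjectiveSpecialLinearGroup (Fin (n + 1)) F :=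
    (QuotientGroup.mk' _).comp ee.symm.toMonoidHom
  have hf : Function.Surjective f := (QuotientGroup.mk'_surjective _).comp ee.symm.surjective
  have hker : f.ker ≤ D.bnPair.B := fun g hg => by
    obtain ⟨r, -, hr⟩ := Matrix.SpecialLinearGroup.mem_center_iff.1
      ((QuotientGroup.eq_one_iff (ee.symm g)).1 hg)
    refine D.H_le_B fun a b hab => ?_
    by_contra hne
    have h2 : MatrixBN.mat _ g = scalar (Fin (n + 1)) r := by
      rw [hr, ← ee.apply_symm_apply g]
      exact congrArg (fun A : Matrix.SpecialLinearGroup (Fin (n + 1)) F => A.1) (ee.symm_apply_apply _).symm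
    exact hab (by rw [h2]; exact Matrix.diagonal_apply_ne _ hne)
  have hr : D.bnPair.rank = n := (matrix_rank D).trans (Nat.card_fin n)
  refine fam_quot (D.splitHyp p)
    (not_dvd_index (D.splitHyp p) (torusPrime_of_injective Function.injective_id (matrix_hH D)))
    (fun h3 => ?_) hf hker (fun h1 => ?_) (fun h2 hp => ?_)
  · rw [hr] at h3
    refine matrix_branch D (b := ⟨1, by omega⟩) (t := ⟨0, by omega⟩) (u := ⟨2, by omega⟩)
      (fun h => absurd (congrArg Fin.val h) (by simp)) ?_ ?_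
    · refine not_commute_of_apply ⟨0, by omega⟩ ?_
      simp [ClassicalSL.tau, Equiv.swap_apply_def, Fin.ext_iff]
    · refine not_commute_of_apply ⟨1, by omega⟩ ?_
      simp [ClassicalSL.tau, Equiv.swap_apply_def, Fin.ext_iff]
  · rw [hr] at h1
    subst h1
    exact Or.inl ⟨F, i1, i2, i3, h4 rfl, ⟨MulEquiv.refl _⟩⟩
  · rw [hr] at h2
    subst h2 hp
    exact Or.inr (Or.inl ⟨F, i1, i2, i3, ⟨MulEquiv.refl _⟩⟩)

theorem fam_psp (h : Cfsg.IsPSpChar p G) : Fam p G := by
  obtain ⟨F, i1, i2, i3, m, hm, h3F, ⟨e⟩⟩ := h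
  refine Fam.of_equiv ?_ e
  obtain ⟨n, rfl⟩ : ∃ n, m = n + 1 := ⟨m - 1, by omega⟩
  have hn : 1 ≤ n := by omega
  let D := ClassicalSp.data (F := F) (n := n) hn
  have hinj : Function.Injective (ClassicalSp.toGLHom F n) := fun a b h => Subtype.ext (congrArg Units.val h)
  let ee : ↥(symplecticGroup (Fin (n + 1)) F) ≃* ↥(ClassicalSp.grp F n) := MonoidHom.ofInjective hinj
  let f : ↥(ClassicalSp.grp F n) →* Cfsg.PSp (n + 1) F := (QuotientGroup.mk' _).comp ee.symm.toMonoidHom
  have hf : Function.Surjective f := (QuotientGroup.mk'_surjective _).comp ee.symm.surjective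
  have hker : f.ker ≤ D.bnPair.B := fun g hg => by
    have hg' := CfsgLib.Sp.mem_center_iff.1 ((QuotientGroup.eq_one_iff (ee.symm g)).1 hg)
    have h2 : MatrixBN.mat _ g = (ee.symm g).1 := by
      conv_lhs => rw [← ee.apply_symm_apply g]
      rfl
    refine D.H_le_B fun a b hab => ?_
    by_contra hne
    have hab' : a ≠ b := fun e => hne (by rw [e]; rfl)
    rw [h2] at hab
    rcases hg' with h | h <;> rw [h] at hab <;> simp [Matrix.one_apply_ne hab'] at hab
  have hr : D.bnPair.rank = n + 1 := (matrix_rank D).trans (by simp [Finite.card_option])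
  refine fam_quot (D.splitHyp p)
    (not_dvd_index (D.splitHyp p) (torusPrime_of_injective ClassicalSp.lv_inj (matrix_hH D)))
    (fun h3 => ?_) hf hker (fun h1 => ?_) (fun h2 hp => ?_)
  · rw [hr] at h3
    refine matrix_branch D (b := some ⟨n - 1, by omega⟩) (t := none) (u := some ⟨n - 2, by omega⟩)
      (by simp) ?_ ?_
    · refine not_commute_of_apply ⟨n - 1, by omega⟩ fun h => ?_
      have h' := congrArg Fin.val h
      simp only [ClassicalSp.tau_some, ClassicalSp.tau_none] at h'
      split_ifs at h' <;> omega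
    · refine not_commute_of_apply ⟨n - 2, by omega⟩ fun h => ?_
      have h' := congrArg Fin.val h
      simp only [ClassicalSp.tau_some] at h'
      split_ifs at h' <;> omega
  · rw [hr] at h1
    omega
  · rw [hr] at h2
    obtain rfl : n = 1 := by omega
    subst hp
    refine Or.inr (Or.inr (Or.inl ⟨F, i1, i2, i3, ?_, ⟨MulEquiv.refl _⟩⟩))
    obtain ⟨k, -, hk⟩ := FiniteField.card F 2
    have h3 := h3F rfl
    rw [hk] at h3 ⊢
    rcases Nat.lt_or_ge (k : ℕ) 2 with hk2 | hk2
    · have : (k : ℕ) = 1 := by have := k.pos; omega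
      rw [this] at h3
      omega
    · exact le_trans (show (4 : ℕ) ≤ 2 ^ 2 by norm_num) (Nat.pow_le_pow_right (by norm_num) hk2)

end CfsgLib.PMinLie
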