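import Cfsg.Agent.Lib.PMinLie.Matrix
import Cfsg.Agent.Lib.PMinLie.Family
import Cfsg.Agent.Lib.CoprimeFix.ClassicalSU
import Cfsg.Agent.Lib.CoprimeFix.ClassicalBase
import Cfsg.Prelude.Def_LieTypeChar

/-!
The projective special unitary groups: in dimensions four and five the two minimal parabolic subgroups
have distinct orders.
-/

set_option autoImplicit false

namespace CfsgLib.PMinLie

open Matrix CfsgLib.BNPair CfsgLib.CoprimeFix CfsgLib.CoprimeFix.UnitaryBN
open CfsgLib.CoprimeFix.MatrixBN (Supp Root)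
open CfsgLib.PronormalPSU (refl' refl'_apply)
open CfsgLib.ClassicalGroups

set_option linter.unusedSectionVars false
set_option linter.unusedSimpArgs false

variable {F : Type*} [Field F] [Fintype F]

theorem exists_trace_ne_zero {τ : F →+* F} (hτ : ∀ x, τ (τ x) = x) (hid : ∃ z, τ z ≠ z) :
    (∃ d, d + τ d = 1) ∧ ∃ ε, ε ≠ 0 ∧ ε + τ ε = 0 := by
  obtain ⟨z, hz⟩ := hid
  refine ⟨?_, z - τ z, sub_ne_zero.2 (Ne.symm hz), by rw [map_sub, hτ]; ring⟩
  obtain ⟨w, hw⟩ : ∃ w, w + τ w ≠ 0 := by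
    by_contra! hno
    have h1 := hno 1
    rw [map_one] at h1
    refine hz ?_
    linear_combination hno z - z * h1
  refine ⟨w / (w + τ w), ?_⟩
  rw [map_div₀, map_add, hτ, add_comm (τ w) w, ← add_div, div_self hw]

variable {τ : F →+* F} {n : ℕ}

/-- The root part of a simple reflection. -/
abbrev RootPart (t : Fin (n / 2) → Equiv.Perm (Fin n)) (i : Fin (n / 2)) :=
  {a : ↥(su τ n) // Supp (_root_.id : Fin n → Fin n) (MatrixBN.mat (su τ n) a) (Root t i)}

theorem root_col {t : Fin (n / 2) → Equiv.Perm (Fin n)}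
    (hc2 : ∀ (i j : Fin (n / 2)), j ≠ i → ∀ x, UnitaryBN.col n i (t j x) = UnitaryBN.col n i x) {i j : Fin (n / 2)}
    (hij : j ≠ i) {x y : Fin n} (h : Root t i x y) : UnitaryBN.col n j x = UnitaryBN.col n j y := by
  refine le_antisymm (col_mono n j h.1.le) ?_
  rw [← hc2 j i hij.symm x, ← hc2 j i hij.symm y]
  exact col_mono n j h.2.le

theorem entry_eq_zero {t : Fin (n / 2) → Equiv.Perm (Fin n)} {i : Fin (n / 2)} (a : RootPart (τ := τ) t i)
    {x y : Fin n} (hxy : x ≠ y) (h : ¬ Root t i x y) : mx a.1 x y = 0 := by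
  by_contra hne
  exact h (a.2 x y (by rwa [Matrix.sub_apply, Matrix.one_apply_ne hxy, sub_zero]))

theorem entry_diag {t : Fin (n / 2) → Equiv.Perm (Fin n)} {i : Fin (n / 2)} (a : RootPart (τ := τ) t i)
    (x : Fin n) : mx a.1 x x = 1 := by
  by_contra hne
  exact lt_irrefl x (a.2 x x (by rwa [Matrix.sub_apply, Matrix.one_apply_eq, sub_ne_zero])).1

theorem unequal_four (hτ : ∀ x, τ (τ x) = x) (hid : ∃ z, τ z ≠ z) {t : Fin (4 / 2) → Equiv.Perm (Fin 4)}
    (D : MatrixBN.Data (_root_.id : Fin 4 → Fin 4) t (su τ 4))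
    (hc1 : ∀ i x y, Root t i x y → UnitaryBN.col 4 i x < UnitaryBN.col 4 i y)
    (hc2 : ∀ (i j : Fin (4 / 2)), j ≠ i → ∀ x, UnitaryBN.col 4 i (t j x) = UnitaryBN.col 4 i x) : Unequal D.bnPair := by
  obtain ⟨⟨d, hd⟩, -⟩ := exists_trace_ne_zero hτ hid
  have h0 : ∀ x y, Root t 0 x y → (x = 0 ∧ y = 1) ∨ (x = 2 ∧ y = 3) := by
    intro x y h
    have h1 := hc1 0 x y h
    have h2 := root_col hc2 (j := 1) (by decide) h
    have h3 := h.1
    revert h1 h2 h3
    clear h
    revert x y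
    decide
  have h1 : ∀ x y, Root t 1 x y → x = 1 ∧ y = 2 := by
    intro x y h
    have h1 := hc1 1 x y h
    have h2 := root_col hc2 (j := 0) (by decide) h
    have h3 := h.1
    revert h1 h2 h3
    clear h
    revert x y
    decide
  have r0 : Root t 0 0 1 ∧ Root t 0 2 3 := by
    constructor
    · obtain ⟨i, hi⟩ := D.adj 0 1 rfl
      fin_cases i
      · exact hi
      · exact absurd (h1 _ _ hi).1 (by decide)
    · obtain ⟨i, hi⟩ := D.adj 2 3 rfl
      fin_cases i
      · exact hi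
      · exact absurd (h1 _ _ hi).1 (by decide)
  -- the middle root part is small
  have hsmall : Nat.card (RootPart (τ := τ) t 1) ≤ Nat.card {c : F // c + τ c = 0} := by
    refine Nat.card_le_card_of_injective (fun a => ⟨mx a.1 1 2, ?_⟩) fun a b e => ?_
    · have h := congrFun (congrFun (mx_unit a.1) 1) 2
      rw [Matrix.mul_apply, Matrix.one_apply_ne (by decide), Fin.sum_univ_four, refl'_apply, refl'_apply,
        refl'_apply, refl'_apply] at h
      have z1 : mx a.1 3 2 = 0 := entry_eq_zero a (by decide) fun h => absurd (h1 _ _ h).1 (by decide)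
      have z2 : mx a.1 0 2 = 0 := entry_eq_zero a (by decide) fun h => absurd (h1 _ _ h).1 (by decide)
      simp only [show Fin.rev (1 : Fin 4) = 2 by decide, show Fin.rev (0 : Fin 4) = 3 by decide,
        show Fin.rev (2 : Fin 4) = 1 by decide, show Fin.rev (3 : Fin 4) = 0 by decide, z1, z2,
        entry_diag, map_one, map_zero, one_mul, mul_one, zero_mul, zero_add, add_zero] at h
      exact h
    · have e' : mx a.1 1 2 = mx b.1 1 2 := congrArg Subtype.val e
      refine Subtype.ext (mx_ext (Matrix.ext fun x y => ?_))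
      by_cases hxy : x = y
      · rw [hxy, entry_diag, entry_diag]
      by_cases hr : x = 1 ∧ y = 2
      · rw [hr.1, hr.2, e']
      · rw [entry_eq_zero a hxy (fun h => hr (h1 _ _ h)), entry_eq_zero b hxy (fun h => hr (h1 _ _ h))]
  have hskew : Nat.card {c : F // c + τ c = 0} < Nat.card F := by
    refine Finite.card_subtype_lt (x := d) ?_
    rw [hd]; exact one_ne_zero
  -- the other one is large
  have hbig : Nat.card F ≤ Nat.card (RootPart (τ := τ) t 0) := by
    have hA : ∀ c, refl' τ !![1, c, 0, 0; 0, 1, 0, 0; 0, 0, 1, -τ c; 0, 0, 0, 1] *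
        !![1, c, 0, 0; 0, 1, 0, 0; 0, 0, 1, -τ c; 0, 0, 0, 1] = 1 := fun c => by
      ext a b
      fin_cases a <;> fin_cases b <;> simp [Matrix.mul_apply, Fin.sum_univ_four, refl'_apply, hτ]
    refine Nat.card_le_card_of_injective (fun c => ⟨mk' _ (hA c)
      (by simp [Matrix.det_succ_row_zero, Fin.sum_univ_succ, Fin.succAbove]), fun a b hab => ?_⟩)
      fun c c' e => ?_
    · change (!![1, c, 0, 0; 0, 1, 0, 0; 0, 0, 1, -τ c; 0, 0, 0, 1] - 1 : Matrix (Fin 4) (Fin 4) F) a b ≠ 0 at hab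
      have hab' : (a = 0 ∧ b = 1) ∨ (a = 2 ∧ b = 3) := by
        fin_cases a <;> fin_cases b <;> simp at hab ⊢
      rcases hab' with ⟨rfl, rfl⟩ | ⟨rfl, rfl⟩
      · exact r0.1
      · exact r0.2
    · simpa using congrFun (congrFun (congrArg (fun a : RootPart (τ := τ) t 0 => mx a.1) e) 0) 1
  rintro ⟨_, i, rfl⟩ ⟨_, j, rfl⟩ e
  rw [card_parabolic D i, card_parabolic D j] at e
  have e' := Nat.add_right_cancel (Nat.eq_of_mul_eq_mul_left Nat.card_pos e)
  fin_cases i <;> fin_cases j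
  · rfl
  · exact absurd e' (hsmall.trans_lt (hskew.trans_le hbig)).ne'
  · exact absurd e' (hsmall.trans_lt (hskew.trans_le hbig)).ne
  · rfl

theorem unequal_five (hτ : ∀ x, τ (τ x) = x) (hid : ∃ z, τ z ≠ z) {t : Fin (5 / 2) → Equiv.Perm (Fin 5)}
    (D : MatrixBN.Data (_root_.id : Fin 5 → Fin 5) t (su τ 5))
    (hc1 : ∀ i x y, Root t i x y → UnitaryBN.col 5 i x < UnitaryBN.col 5 i y)
    (hc2 : ∀ (i j : Fin (5 / 2)), j ≠ i → ∀ x, UnitaryBN.col 5 i (t j x) = UnitaryBN.col 5 i x) : Unequal D.bnPair := by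
  obtain ⟨⟨d, hd⟩, ε, hε0, hε⟩ := exists_trace_ne_zero hτ hid
  have h0 : ∀ x y, Root t 0 x y → (x = 0 ∧ y = 1) ∨ (x = 3 ∧ y = 4) := by
    intro x y h
    have h1 := hc1 0 x y h
    have h2 := root_col hc2 (j := 1) (by decide) h
    have h3 := h.1
    revert h1 h2 h3
    clear h
    revert x y
    decide
  have r1 : Root t 1 1 2 ∧ Root t 1 2 3 ∧ Root t 1 1 3 := by
    have a1 : Root t 1 1 2 := by
      obtain ⟨i, hi⟩ := D.adj 1 2 rfl
      fin_cases i
      · exact absurd (h0 _ _ hi) (by decide)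
      · exact hi
    have a2 : Root t 1 2 3 := by
      obtain ⟨i, hi⟩ := D.adj 2 3 rfl
      fin_cases i
      · exact absurd (h0 _ _ hi) (by decide)
      · exact hi
    exact ⟨a1, a2, a1.1.trans a2.1, a2.2.trans a1.2⟩
  have hsmall : Nat.card (RootPart (τ := τ) t 0) ≤ Nat.card F := by
    refine Nat.card_le_card_of_injective (fun a => mx a.1 0 1) fun a b (e' : mx a.1 0 1 = mx b.1 0 1) => ?_
    have key : ∀ a : RootPart (τ := τ) t 0, mx a.1 3 4 + τ (mx a.1 0 1) = 0 := fun a => by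
      have h := congrFun (congrFun (mx_unit a.1) 3) 4
      rw [Matrix.mul_apply, Matrix.one_apply_ne (by decide), Fin.sum_univ_five, refl'_apply, refl'_apply,
        refl'_apply, refl'_apply, refl'_apply] at h
      have z0 : mx a.1 4 1 = 0 := entry_eq_zero a (by decide) fun h => absurd (h0 _ _ h) (by decide)
      have z1 : mx a.1 3 1 = 0 := entry_eq_zero a (by decide) fun h => absurd (h0 _ _ h) (by decide)
      have z2 : mx a.1 2 1 = 0 := entry_eq_zero a (by decide) fun h => absurd (h0 _ _ h) (by decide)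
      simp only [show Fin.rev (0 : Fin 5) = 4 by decide, show Fin.rev (1 : Fin 5) = 3 by decide,
        show Fin.rev (2 : Fin 5) = 2 by decide, show Fin.rev (3 : Fin 5) = 1 by decide,
        show Fin.rev (4 : Fin 5) = 0 by decide, z0, z1, z2,
        entry_diag, map_one, map_zero, one_mul, mul_one, zero_mul, zero_add, add_zero] at h
      exact h
    refine Subtype.ext (mx_ext (Matrix.ext fun x y => ?_))
    by_cases hxy : x = y
    · rw [hxy, entry_diag, entry_diag]
    by_cases hr : (x = 0 ∧ y = 1) ∨ (x = 3 ∧ y = 4)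
    · rcases hr with ⟨rfl, rfl⟩ | ⟨rfl, rfl⟩
      · exact e'
      · have h1 := key a
        have h2 := key b
        rw [e'] at h1
        exact add_right_cancel (h1.trans h2.symm)
    · rw [entry_eq_zero a hxy (fun h => hr (h0 _ _ h)), entry_eq_zero b hxy (fun h => hr (h0 _ _ h))]
  have hbig : Nat.card F + 1 ≤ Nat.card (RootPart (τ := τ) t 1) := by
    let ab : Option F → F × F := fun o => o.elim (0, ε) fun a => (a, -(d * (a * τ a)))
    have hab : ∀ o, (ab o).2 + τ (ab o).2 + (ab o).1 * τ (ab o).1 = 0 := by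
      rintro (_ | a)
      · simp [ab, hε]
      · simp only [ab, Option.elim, map_neg, map_mul, hτ]
        linear_combination (-(a * τ a)) * hd
    have hA : ∀ o, refl' τ !![1, 0, 0, 0, 0; 0, 1, (ab o).1, (ab o).2, 0; 0, 0, 1, -τ (ab o).1, 0; 0, 0, 0, 1, 0;
        0, 0, 0, 0, 1] * !![1, 0, 0, 0, 0; 0, 1, (ab o).1, (ab o).2, 0; 0, 0, 1, -τ (ab o).1, 0; 0, 0, 0, 1, 0;
        0, 0, 0, 0, 1] = 1 := fun o => by
      ext a b
      fin_cases a <;> fin_cases b <;> simp [Matrix.mul_apply, Fin.sum_univ_five, refl'_apply, hτ]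
      linear_combination hab o
    rw [← Finite.card_option]
    refine Nat.card_le_card_of_injective (fun o => ⟨mk' _ (hA o)
      (by simp [Matrix.det_succ_row_zero, Fin.sum_univ_succ, Fin.succAbove]), fun a b hne => ?_⟩)
      fun o o' e => ?_
    · change (!![1, 0, 0, 0, 0; 0, 1, (ab o).1, (ab o).2, 0; 0, 0, 1, -τ (ab o).1, 0; 0, 0, 0, 1, 0;
        0, 0, 0, 0, 1] - 1 : Matrix (Fin 5) (Fin 5) F) a b ≠ 0 at hne
      have hne' : (a = 1 ∧ b = 2) ∨ (a = 2 ∧ b = 3) ∨ (a = 1 ∧ b = 3) := by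
        fin_cases a <;> fin_cases b <;> simp at hne ⊢
      rcases hne' with ⟨rfl, rfl⟩ | ⟨rfl, rfl⟩ | ⟨rfl, rfl⟩
      exacts [r1.1, r1.2.1, r1.2.2]
    · have e1 : (ab o).1 = (ab o').1 := by
        simpa using congrFun (congrFun (congrArg (fun a : RootPart (τ := τ) t 1 => mx a.1) e) 1) 2
      have e2 : (ab o).2 = (ab o').2 := by
        simpa using congrFun (congrFun (congrArg (fun a : RootPart (τ := τ) t 1 => mx a.1) e) 1) 3
      rcases o with _ | a <;> rcases o' with _ | a'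
      · rfl
      · exfalso
        simp only [ab, Option.elim] at e1 e2
        subst e1
        simp at e2
        exact hε0 e2
      · exfalso
        simp only [ab, Option.elim] at e1 e2
        subst e1
        simp at e2
        exact hε0 e2.symm
      · simp only [ab, Option.elim] at e1
        rw [e1]
  rintro ⟨_, i, rfl⟩ ⟨_, j, rfl⟩ e
  rw [card_parabolic D i, card_parabolic D j] at e
  have e' := Nat.add_right_cancel (Nat.eq_of_mul_eq_mul_left Nat.card_pos e)
  fin_cases i <;> fin_cases j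
  · rfl
  · exact absurd e' (hsmall.trans_lt (Nat.lt_of_succ_le hbig)).ne
  · exact absurd e' (hsmall.trans_lt (Nat.lt_of_succ_le hbig)).ne'
  · rfl

/-- The first three reflections form a chain. -/
theorem unitary_noncomm {t : Fin (n / 2) → Equiv.Perm (Fin n)}
    (D : MatrixBN.Data (_root_.id : Fin n → Fin n) t (su τ n))
    (hc1 : ∀ i x y, Root t i x y → UnitaryBN.col n i x < UnitaryBN.col n i y)
    (hc2 : ∀ (i j : Fin (n / 2)), j ≠ i → ∀ x, UnitaryBN.col n i (t j x) = UnitaryBN.col n i x) (h6 : 6 ≤ n) :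
    ¬ Commute (t ⟨1, by omega⟩) (t ⟨0, by omega⟩) ∧ ¬ Commute (t ⟨1, by omega⟩) (t ⟨2, by omega⟩) := by
  have low : ∀ (i j : Fin (n / 2)), j ≠ i → ∀ x : Fin n, (x : ℕ) ≤ i ↔ (t j x : ℕ) ≤ i := by
    intro i j hij x
    have h := hc2 i j hij x
    simp only [UnitaryBN.col] at h
    split_ifs at h <;> omega
  have rev : ∀ k : ℕ, ∀ hk : k ≤ 2, (t ⟨k, by omega⟩ ⟨k + 1, by omega⟩ : ℕ) < t ⟨k, by omega⟩ ⟨k, by omega⟩ := by
    intro k hk
    have hk' : k < n / 2 := by omega
    obtain ⟨i, hi⟩ := D.adj ⟨k, by omega⟩ ⟨k + 1, by omega⟩ rfl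
    have h := hc1 i _ _ hi
    have := i.isLt
    obtain rfl : i = ⟨k, hk'⟩ := Fin.ext (by
      show (i : ℕ) = k
      simp only [UnitaryBN.col] at h
      split_ifs at h <;> omega)
    exact hi.2
  have ne01 : (⟨0, by omega⟩ : Fin (n / 2)) ≠ ⟨1, by omega⟩ := by simp
  have ne02 : (⟨0, by omega⟩ : Fin (n / 2)) ≠ ⟨2, by omega⟩ := by simp
  have ne12 : (⟨1, by omega⟩ : Fin (n / 2)) ≠ ⟨2, by omega⟩ := by simp
  set a := t ⟨0, by omega⟩ with ha
  set b := t ⟨1, by omega⟩ with hb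
  set c := t ⟨2, by omega⟩ with hc
  have hb0 : b ⟨0, by omega⟩ = ⟨0, by omega⟩ := Fin.ext (by
    have := (low _ _ ne01.symm ⟨0, by omega⟩).1 le_rfl
    simp only [← hb, Nat.reduceAdd] at this ⊢; omega)
  have hb12 : b ⟨1, by omega⟩ = ⟨2, by omega⟩ ∧ b ⟨2, by omega⟩ = ⟨1, by omega⟩ := by
    have h1 := (low _ _ ne12 ⟨1, by omega⟩).1 (by simp)
    have h2 := (low _ _ ne12 ⟨2, by omega⟩).1 le_rfl
    have h3 := low _ _ ne01.symm ⟨1, by omega⟩
    have h4 := low _ _ ne01.symm ⟨2, by omega⟩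
    have h5 := rev 1 (by omega)
    simp only [← hb, Fin.ext_iff, Nat.reduceAdd] at h1 h2 h3 h4 h5 ⊢
    omega
  have ha2 : (a ⟨2, by omega⟩ : ℕ) = 2 ∧ (a ⟨1, by omega⟩ : ℕ) = 0 := by
    have h1 := (low _ _ ne02 ⟨2, by omega⟩).1 le_rfl
    have h2 := low _ _ ne01 ⟨2, by omega⟩
    have h3 := (low _ _ ne01 ⟨1, by omega⟩).1 le_rfl
    have h4 := (low _ _ ne01 ⟨0, by omega⟩).1 (by simp)
    have h5 := rev 0 (by omega)
    simp only [← ha, Nat.reduceAdd] at h1 h2 h3 h4 h5 ⊢
    omega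
  have hc1' : c ⟨1, by omega⟩ = ⟨1, by omega⟩ := Fin.ext (by
    have h1 := (low _ _ ne12.symm ⟨1, by omega⟩).1 le_rfl
    have h2 := low _ _ ne02.symm ⟨1, by omega⟩
    simp only [← hc, Nat.reduceAdd] at h1 h2 ⊢; omega)
  have hc2' : 3 ≤ (c ⟨2, by omega⟩ : ℕ) := by
    have h1 := low _ _ ne12.symm ⟨2, by omega⟩
    have h2 := low _ _ ne12.symm ⟨3, by omega⟩
    have h5 := rev 2 (by omega)
    simp only [← hc, Nat.reduceAdd] at h1 h2 h5 ⊢
    omega
  constructor
  · intro h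
    have h' := congrArg Fin.val (DFunLike.congr_fun h.eq ⟨2, by omega⟩)
    rw [Equiv.Perm.mul_apply, Equiv.Perm.mul_apply, hb12.2, Fin.ext ha2.1 (b := ⟨2, by omega⟩), hb12.2] at h'
    simp only at h'
    omega
  · intro h
    have h' := congrArg Fin.val (DFunLike.congr_fun h.eq ⟨1, by omega⟩)
    rw [Equiv.Perm.mul_apply, Equiv.Perm.mul_apply, hc1', hb12.1] at h'
    simp only at h'
    omega

theorem fam_psu {p : ℕ} [Fact p.Prime] {G : Type*} [Group G] (h : Cfsg.IsPSUChar p G) : Fam p G := by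
  obtain ⟨F, i1, i2, i3, n, q, hF, hn, hne, ⟨e⟩⟩ := h
  refine Fam.of_equiv ?_ e
  obtain ⟨t, D, f, hf, hker, hsc, hc1, hc2⟩ := exists_data_hom_su (n := n) hF (by omega)
  have hτ : ∀ x, hermConj hF (hermConj hF x) = x := hermConj_hermConj hF
  have hid : ∃ z, hermConj hF z ≠ z := by
    by_contra! h; exact hermConj_ne_id hF (RingHom.ext h)
  have hr : D.bnPair.rank = n / 2 := (matrix_rank D).trans (Nat.card_fin _)
  have hU : ¬ p ∣ D.U.index :=
    not_dvd_index (D.splitHyp p) (torusPrime_of_injective Function.injective_id (matrix_hH D))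
  refine fam_quot (D.splitHyp p) hU (fun h3 => ?_) hf hker (fun h1 => ?_) (fun h2 hp => Or.inl ?_)
  · rw [hr] at h3
    obtain ⟨e1, e2⟩ := unitary_noncomm D hc1 hc2 (by omega)
    exact matrix_branch D (fun h => absurd (congrArg Fin.val h) (by simp)) e1 e2
  · rw [hr] at h1
    obtain rfl : n = 3 := by omega
    exact Or.inr (Or.inl ⟨F, i1, i2, i3, q, hF, fun hq => hne ⟨rfl, hq⟩, ⟨MulEquiv.refl _⟩⟩)
  · rw [hr] at h2
    rcases (show n = 4 ∨ n = 5 by omega) with rfl | rfl
    · exact unequal_four hτ hid D hc1 hc2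
    · exact unequal_five hτ hid D hc1 hc2

end CfsgLib.PMinLie
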