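import Cfsg.Agent.Lib.PMinLie.Orth
import Cfsg.Agent.Lib.PMinLie.Linear
import Cfsg.Agent.Lib.PMinLie.Unitary
import Cfsg.Agent.Lib.CoprimeFix85.RadicalChev
import Cfsg.Agent.Lib.SplitBlocks.TorusLie
import Cfsg.Agent.Lib.SplitBlocks.LieSimple
import Cfsg.Agent.Lib.ChevAut.GraphRankTwo
import Cfsg.Agent.Lib.TwistAut.TypeD4
import Cfsg.Agent.Lib.LargeReeAut.Main

/-!
The exceptional, twisted, Suzuki and Ree families.
-/

set_option autoImplicit false
set_option linter.unusedSectionVars false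

namespace CfsgLib.PMinLie

open Cfsg.Lie CfsgLib.BNPair CfsgLib.ChevStr CfsgLib.Twisted CfsgLib.CoprimeFix
open scoped MatrixGroups

/-- `NoSwap` from a standard form of the automorphisms. -/
theorem noSwap_of_standard {G : Type*} [Group G] [Finite G] {p : ℕ} [Fact p.Prime] {P : Cfsg.BNPair G}
    {U : Subgroup G} (H : SplitHyp p P U)
    (h : ∀ α : MulAut G, ∃ (x : G) (ψ : MulAut G), (∀ u ∈ U, ψ u ∈ U) ∧ (∀ b ∈ P.B, ψ b ∈ P.B) ∧
      (∀ s ∈ P.S, ψ s ∈ P.parabolic {s}) ∧ ∀ y, α y = x * ψ y * x⁻¹) : NoSwap P U := by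
  intro α hα s t e
  obtain ⟨x, ψ, hψU, hψB, hψS, hαψ⟩ := h α
  have hU' : U.map ψ.toMonoidHom = U := by
    refine Subgroup.eq_of_le_of_card_ge (Subgroup.map_le_iff_le_comap.2 hψU) (le_of_eq ?_)
    exact Nat.card_congr (U.equivMapOfInjective ψ.toMonoidHom ψ.injective).toEquiv
  have hxB : x ∈ P.B := by
    rw [← H.normalizer_eq, Subgroup.mem_normalizer_iff]
    intro y
    constructor <;> intro hy
    · obtain ⟨u, hu, rfl⟩ : y ∈ U.map ψ.toMonoidHom := hU'.ge hy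
      have : α u ∈ U := hα.le ⟨u, hu, rfl⟩
      rw [hαψ] at this
      exact this
    · obtain ⟨u, hu, hue⟩ : x * y * x⁻¹ ∈ U.map α.toMonoidHom := hα.ge hy
      change α u = _ at hue
      rw [hαψ] at hue
      have : ψ u = y := mul_left_cancel (mul_right_cancel hue)
      exact this ▸ hψU u hu
  have hle : (P.parabolic {(s : G)}).map α.toMonoidHom ≤ P.parabolic {(s : G)} := by
    have h1 : P.parabolic {(s : G)} ≤ (P.parabolic {(s : G)}).comap ψ.toMonoidHom := by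
      refine sup_le (fun b hb => B_le_parabolic P _ (hψB b hb)) ((Subgroup.closure_le _).2 ?_)
      rintro _ rfl
      exact hψS s s.2
    rintro _ ⟨y, hy, rfl⟩
    show α y ∈ _
    rw [hαψ]
    exact mul_mem (mul_mem (B_le_parabolic P _ hxB) (h1 hy)) (inv_mem (B_le_parabolic P _ hxB))
  refine parabolic_singleton_injective (P := P) ?_
  show P.parabolic {(s : G)} = P.parabolic {(t : G)}
  rw [← e]
  exact (Subgroup.eq_of_le_of_card_ge hle (le_of_eq (Nat.card_congr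
    ((P.parabolic {(s : G)}).equivMapOfInjective α.toMonoidHom α.injective).toEquiv))).symm

/-- A torus with a `p`-free complement. -/
theorem torusPrime_of_retraction {G : Type*} [Group G] [Finite G] {p : ℕ} [Fact p.Prime]
    {P : Cfsg.BNPair G} {U : Subgroup G} (H : SplitHyp p P U) (H₀ : Subgroup G) (hle : H₀ ≤ P.B)
    (hco : ∀ h ∈ H₀, ¬ p ∣ orderOf h) (hcomm : ∀ a ∈ H₀, ∀ b ∈ H₀, a * b = b * a)
    (hdec : ∀ b ∈ P.B, ∃ u ∈ U, ∃ h ∈ H₀, b = u * h) : TorusPrime p P :=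
  torusPrime_of_coprime (SplitBlocks.torus_of_retraction H H₀ hle hco hcomm hdec).coprime

section Chev

variable {D : ChevalleyDatum} {F : Type*} [Field F] (C : ChevCore D F)

include C in
theorem chev_rank : C.bnPair.rank = D.rank := by
  refine (Nat.card_range_of_injective fun i j h => ChevAut.cell_eq C ?_).trans (Nat.card_fin _)
  rw [show C.nS i = C.nS j from congrArg Subtype.val h]
  exact C.self_mem_bigCell _

include C in
theorem chev_torusPrime [Fintype F] (p : ℕ) [Fact p.Prime] [CharP F p] (hr : 0 < D.rank) :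
    TorusPrime p C.bnPair := by
  refine torusPrime_of_retraction (chev_splitHyp C p hr) ((D.diagonalSubgroup F).subgroupOf (D.group F))
    (fun h hh => ?_) (fun h hh => ?_) (fun a ha b hb => ?_) fun b hb => ?_
  · exact le_sup_right (a := D.posUnipotent F) hh
  · rw [← Subgroup.orderOf_coe]; exact (SplitBlocks.diagonal_torus C p).1 _ hh
  · exact Subtype.ext ((SplitBlocks.diagonal_torus C p).2 _ ha _ hb)
  · obtain ⟨u, hu, c, e⟩ := C.mem_borel.1 hb
    have hUB : D.posUnipotent F ≤ D.borelSubgroup F := le_sup_left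
    refine ⟨⟨u, C.borel_le_group (hUB hu)⟩, hu, ⟨C.R.torus c, C.borel_le_group (C.torus_mem_borel c)⟩,
      ?_, Subtype.ext e⟩
    show C.R.torus c ∈ D.diagonalSubgroup F
    rw [C.diagonalSubgroup_eq]; exact ⟨c, rfl⟩

include C in
theorem fam_chev [Fintype F] (p : ℕ) [Fact p.Prime] [CharP F p] (hr : 2 ≤ D.rank)
    (hs : IsSimpleGroup ↥(D.group F))
    (h2 : D.rank = 2 → p = 2 → NoSwap C.bnPair ((D.posUnipotent F).subgroupOf (D.group F))) :
    Fam p ↥(D.group F) := by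
  have H := chev_splitHyp C p (by omega)
  have hU := not_dvd_index H (chev_torusPrime C p (by omega))
  refine ⟨_, _, H, hU, fun h => branch_of_radical H hU (CoprimeFix85.chev_radical C p) h, ?_, ?_⟩
  · rw [chev_rank]; omega
  · rw [chev_rank]; exact fun h hp => Or.inl (h2 h hp)

include C in
theorem chev_noSwap [Fintype F] (p : ℕ) [Fact p.Prime] [CharP F p] (hr : 0 < D.rank)
    (hπ : ∀ (φ : ↥(D.group F) ≃* ↥(D.group F)), ChevAut.Normal φ → ∀ S : ChevAut.Std C φ, S.π = 1) :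
    NoSwap C.bnPair ((D.posUnipotent F).subgroupOf (D.group F)) := by
  refine noSwap_of_standard (chev_splitHyp C p hr) fun α => ?_
  obtain ⟨x, φ, hφ, hαφ⟩ := ChevAut.exists_normal C α
  obtain ⟨S⟩ := ChevAut.nonempty_std C hφ
  refine ⟨x, φ, fun u hu => ?_, fun b hb => ?_, ?_, hαφ⟩
  · show (φ u : GL D.Idx F) ∈ D.posUnipotent F
    rw [← ChevAut.app_coe]
    exact hφ.pos _ hu
  · show (φ b : GL D.Idx F) ∈ D.borelSubgroup F
    rw [← ChevAut.app_coe]
    exact hφ.mem_borel C hb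
  · rintro _ ⟨i, rfl⟩
    have hc := S.cell i
    rw [hπ φ hφ S, Equiv.Perm.one_apply, C.mem_bigCell,
      show C.nS i = ((C.nSG i : ↥(D.group F)) : GL D.Idx F) from rfl, ChevAut.app_coe] at hc
    obtain ⟨a, ha, b, hb, e⟩ := hc
    rw [show φ (C.nSG i) = ⟨a, C.borel_le_group ha⟩ * C.nSG i * ⟨b, C.borel_le_group hb⟩ from
      Subtype.ext e]
    exact mul_mem (mul_mem (B_le_parabolic C.bnPair _ ha) (subset_parabolic C.bnPair _ rfl))
      (B_le_parabolic C.bnPair _ hb)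

end Chev

section Twisted

variable {D : ChevalleyDatum} {F : Type*} [Field F] {C : ChevCore D F} {φ : Frob C} {I : Type}
  {O : OrbitData C.R φ.ρ I} {G1 : Subgroup (GL D.Idx F)} {d : ℕ} (g : Gens φ O G1 d)

theorem twisted_rank [Fintype F] : (g.reflections.bnPair).rank = Nat.card I := by
  refine Nat.card_range_of_injective fun i j h => g.reflections.s_inj i j ?_
  rw [show g.reflections.s i = g.reflections.s j from congrArg Subtype.val h, inv_mul_cancel]
  exact one_mem _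

theorem twisted_torusPrime [Fintype F] (p : ℕ) [Fact p.Prime] [CharP F p] [Nonempty I] :
    TorusPrime (G := ↥G1) p g.reflections.bnPair := by
  refine torusPrime_of_retraction (G := ↥G1) (twisted_splitHyp' C g p)
    ((D.diagonalSubgroup F).subgroupOf G1) (fun h hh => ?_) (fun h hh => ?_) (fun a ha b hb => ?_)
    fun b hb => ?_
  · exact ⟨le_sup_right (a := D.posUnipotent F) hh, h.2⟩
  · rw [← Subgroup.orderOf_coe]; exact (SplitBlocks.diagonal_torus C p).1 _ hh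
  · exact Subtype.ext ((SplitBlocks.diagonal_torus C p).2 _ ha _ hb)
  · obtain ⟨u, hu, h, hh, e⟩ := g.twist.mem_B_inf.1 hb
    exact ⟨⟨u, hu.2⟩, hu, ⟨h, hh.2⟩, hh.1, Subtype.ext e.symm⟩

theorem fam_twisted [Fintype F] (p : ℕ) [Fact p.Prime] [CharP F p] [Nonempty I]
    (hs : IsSimpleGroup ↥G1) (h1 : Nat.card I = 1 → Cfsg.IsLieRankOneChar p ↥G1)
    (h2 : Nat.card I = 2 → p = 2 →
      NoSwap (G := ↥G1) g.reflections.bnPair ((D.posUnipotent F ⊓ G1).subgroupOf G1)) :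
    Fam p ↥G1 := by
  have H := twisted_splitHyp' C g p
  have hU := not_dvd_index (G := ↥G1) H (twisted_torusPrime g p)
  refine ⟨_, _, H, hU, fun h => branch_of_radical H hU (CoprimeFix85.twisted_radical C g p) h, ?_, ?_⟩
  · exact fun h => h1 ((twisted_rank g).symm.trans h)
  · exact fun h hp => Or.inl (h2 ((twisted_rank g).symm.trans h) hp)

theorem twisted_noSwap [Fintype F] (p : ℕ) [Fact p.Prime] [CharP F p] [Nonempty I]
    (hnorm : ∀ α : MulAut ↥G1, ∃ (x : ↥G1) (ψ : ↥G1 ≃* ↥G1), TwistAut.Normal ψ ∧ ∀ y, α y = x * ψ y * x⁻¹)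
    (hopp : TwistAut.Opp C O G1)
    (hπ : ∀ (ψ : ↥G1 ≃* ↥G1), TwistAut.Normal ψ → ∀ P : TwistAut.Perm g ψ, ∀ i, P.π i = i) :
    NoSwap (G := ↥G1) g.reflections.bnPair ((D.posUnipotent F ⊓ G1).subgroupOf G1) := by
  refine noSwap_of_standard (G := ↥G1) (twisted_splitHyp' C g p) fun α => ?_
  obtain ⟨x, ψ, hψ, hαψ⟩ := hnorm α
  obtain ⟨P⟩ := TwistAut.nonempty_perm g p hopp hψ
  refine ⟨x, ψ, fun u hu => ?_, fun b hb => ?_, ?_, hαψ⟩
  · show (ψ u : GL D.Idx F) ∈ TwistAut.pU G1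
    rw [← TwistAut.app_coe]
    exact hψ.pos _ hu
  · show (ψ b : GL D.Idx F) ∈ TwistAut.bor G1
    rw [← TwistAut.app_coe]
    exact TwistAut.Normal.mem_bor g hψ hb
  · rintro _ ⟨i, rfl⟩
    have hc := P.cell i
    rw [hπ ψ hψ P i, show g.s i = ((⟨g.s i, g.s_mem i⟩ : ↥G1) : GL D.Idx F) from rfl,
      TwistAut.app_coe] at hc
    obtain ⟨a, ha, b, hb, e⟩ := hc
    show ψ ⟨g.s i, g.s_mem i⟩ ∈
      Cfsg.BNPair.parabolic (G := ↥G1) g.reflections.bnPair {⟨g.s i, g.s_mem i⟩}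
    rw [show ψ ⟨g.s i, g.s_mem i⟩ = ⟨a, ha.2⟩ * ⟨g.s i, g.s_mem i⟩ * ⟨b, hb.2⟩ from Subtype.ext e]
    exact mul_mem (mul_mem (B_le_parabolic (G := ↥G1) g.reflections.bnPair _ ha)
      (subset_parabolic (G := ↥G1) g.reflections.bnPair _ rfl))
      (B_le_parabolic (G := ↥G1) g.reflections.bnPair _ hb)

end Twisted

variable {p : ℕ} [Fact p.Prime] {G : Type*} [Group G]

theorem isSimple_of_char {H : Type} [Group H] (h : Cfsg.IsLieTypeChar p G) (e : G ≃* H) :
    IsSimpleGroup H :=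
  haveI := SplitBlocks.isSimpleGroup_of_isLieTypeChar h
  e.symm.isSimpleGroup

theorem fam_exceptional (h : Cfsg.IsExceptionalChevChar p G) : Fam p G := by
  have hLT : Cfsg.IsLieTypeChar p G :=
    Or.inr <| Or.inr <| Or.inr <| Or.inr <| Or.inr <| Or.inr <| Or.inl h
  obtain ⟨F, i1, i2, i3, ⟨h3, ⟨e⟩⟩ | ⟨⟨e⟩⟩ | ⟨⟨e⟩⟩ | ⟨⟨e⟩⟩ | ⟨⟨e⟩⟩⟩ := h
  · refine Fam.of_equiv ?_ e
    refine fam_chev (coreG2 F) p (by decide +kernel) (isSimple_of_char hLT e) fun _ hp => ?_
    refine chev_noSwap (coreG2 F) p (by decide +kernel) fun φ hφ S => ?_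
    subst hp
    refine (ChevAut.piG2_cases hφ S).resolve_right fun e' => ?_
    have h30 := ChevAut.three_eq_zero_G2 S ⟨0, by decide +kernel⟩ ⟨1, by decide +kernel⟩ rfl rfl
      (by rw [e']; decide +kernel) (by rw [e']; decide +kernel)
    have h20 : (2 : F) = 0 := CharTwo.two_eq_zero
    exact one_ne_zero (α := F) (by linear_combination h30 - h20)
  · exact Fam.of_equiv (fam_chev (coreF4 F) p (by decide +kernel) (isSimple_of_char hLT e)
      fun h2 => absurd h2 (by decide +kernel)) e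
  · exact Fam.of_equiv (fam_chev (coreE6 F) p (by decide +kernel) (isSimple_of_char hLT e)
      fun h2 => absurd h2 (by decide +kernel)) e
  · exact Fam.of_equiv (fam_chev (coreE7 F) p (by decide +kernel) (isSimple_of_char hLT e)
      fun h2 => absurd h2 (by decide +kernel)) e
  · exact Fam.of_equiv (fam_chev (coreE8 F) p (by decide +kernel) (isSimple_of_char hLT e)
      fun h2 => absurd h2 (by decide +kernel)) e

theorem fam_twistedE6D4 (h : Cfsg.IsTwistedE6D4Char p G) : Fam p G := by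
  have hLT : Cfsg.IsLieTypeChar p G :=
    Or.inr <| Or.inr <| Or.inr <| Or.inr <| Or.inr <| Or.inr <| Or.inr <| Or.inl h
  obtain ⟨K, _, _, _, q, hq, ⟨hK, ⟨e⟩⟩ | ⟨hK, ⟨e⟩⟩⟩ := h
  · obtain ⟨p', n, hp, rfl, hn, h2⟩ := setupE6 K hq hK
    exact Fam.of_equiv (fam_twisted (gensE6 K hn h2) p (isSimple_of_char hLT e) (by simp) (by simp)) e
  · obtain ⟨p', n, hpK, rfl, hn, h2⟩ := setupD4 K hq hK
    obtain rfl : p' = p := ExpChar.eq hpK inferInstance
    refine Fam.of_equiv (fam_twisted (gensD4 K hn h2) p' (isSimple_of_char hLT e) (by simp) fun _ _ => ?_) e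
    exact twisted_noSwap (gensD4 K hn h2) p'
      (TwistAut.exists_normal (gensD4 K hn h2) p' (n := n) (by rw [Nat.card_eq_fintype_card, hn]; ring)) (TwistAut.setupD4Aut K hn h2).opp
      (TwistAut.perm_fixD4 K hn h2)

theorem fam_suzuki (h : p = 2 ∧ Cfsg.Lie.IsoSuzuki G) : Fam p G := by
  have h1 : Cfsg.IsLieRankOneChar p G := Or.inr (Or.inr (Or.inl h))
  obtain ⟨rfl, F, _, _, m, hm, hF, ⟨e⟩⟩ := h
  obtain ⟨hc, ⟨P⟩⟩ := CfsgLib.SuzukiGroup.exists_params hF
  obtain ⟨Q, U, H, hr, hle, hdec⟩ := suzuki_splitHyp_rank P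
  let δ : Fˣ →* ↥(Sz F _) :=
    { toFun := CfsgLib.SuzukiGroup.dEl P
      map_one' := CfsgLib.SuzukiGroup.dEl_one P
      map_mul' := fun x y => (CfsgLib.SuzukiGroup.dEl_mul P x y).symm }
  have T : TorusPrime 2 Q := by
    refine torusPrime_of_retraction H δ.range ?_ ?_ ?_ fun b hb => ?_
    · rintro _ ⟨x, rfl⟩; exact hle x
    · rintro _ ⟨x, rfl⟩ hdvd
      have h1 : 2 ∣ Fintype.card F - 1 := hdvd.trans ((orderOf_map_dvd δ x).trans (orderOf_dvd_of_pow_eq_one
        (Units.ext (by simpa using FiniteField.pow_card_sub_one_eq_one (x : F) x.ne_zero))))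
      have h2 := FiniteField.even_card_of_char_two (F := F) (ringChar.eq_iff.2 inferInstance)
      have := Fintype.card_pos (α := F)
      omega
    · rintro _ ⟨x, rfl⟩ _ ⟨y, rfl⟩; rw [← map_mul, mul_comm, map_mul]
    · obtain ⟨u, hu, x, e⟩ := hdec b hb
      exact ⟨u, hu, δ x, ⟨x, rfl⟩, e⟩
  refine Fam.of_equiv ⟨Q, U, H, not_dvd_index H T, ?_, ?_, ?_⟩ e
  · rw [hr]; omega
  · exact fun _ => rankOne_of_equiv h1 e.symm
  · rw [hr]; omega

theorem fam_reeF4 (h : p = 2 ∧ Cfsg.Lie.Iso2F4 G) : Fam p G := by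
  have hLT : Cfsg.IsLieTypeChar p G :=
    Or.inr <| Or.inr <| Or.inr <| Or.inr <| Or.inr <| Or.inr <| Or.inr <| Or.inr <| Or.inr <| Or.inl h
  obtain ⟨rfl, K, _, _, m, hm, hK, ⟨e⟩⟩ := h
  obtain ⟨hc, hn⟩ := setupF4 K hK
  refine Fam.of_equiv (fam_twisted (gensF4 K hn) 2 (isSimple_of_char hLT e) (by simp) fun _ _ => ?_) e
  exact twisted_noSwap (gensF4 K hn) 2
    (LargeReeAut.exists_normal' (gensF4 K hn) 2 (LargeReeAut.not_two_dvd_index hn)) (LargeReeAut.opp hn)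
    fun ψ _ P => LargeReeAut.perm_id hn P

theorem fam_ree (h : p = 3 ∧ Cfsg.Lie.IsoRee G) : Fam p G := by
  have hLT : Cfsg.IsLieTypeChar p G :=
    Or.inr <| Or.inr <| Or.inr <| Or.inr <| Or.inr <| Or.inr <| Or.inr <| Or.inr <| Or.inr <| Or.inr h
  have h1 : Cfsg.IsLieRankOneChar p G := Or.inr (Or.inr (Or.inr ⟨h.1, Or.inl h.2⟩))
  obtain ⟨rfl, K, _, _, m, hm, hK, ⟨e⟩⟩ := h
  obtain ⟨hc, hn⟩ := setupG2 K hK
  exact Fam.of_equiv (fam_twisted (gensG2 K hn) 3 (isSimple_of_char hLT e)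
    (fun _ => rankOne_of_equiv h1 e.symm) (by simp)) e

theorem fam_lieType (h : Cfsg.IsLieTypeChar p G) : Fam p G := by
  rcases h with h | h | h | h | h | h | h | h | h | h | h
  exacts [fam_psl h, fam_psp h, fam_psu h, fam_pOmega (Or.inl h), fam_pOmega (Or.inr (Or.inl h)),
    fam_pOmega (Or.inr (Or.inr h)), fam_exceptional h, fam_twistedE6D4 h, fam_suzuki h, fam_reeF4 h, fam_ree h]

end CfsgLib.PMinLie
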