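import Cfsg.Agent.Lib.PMinLie.Sylow
import Cfsg.Agent.Lib.CoprimeFix.MatrixBN
import Cfsg.Agent.Lib.CoprimeFix.MatrixBNGen

/-!
Invariants of the `(B, N)`-pairs of the matrix criterion: non-commuting reflections, the torus, and the
orders of the minimal parabolic subgroups.
-/

set_option autoImplicit false

namespace CfsgLib.PMinLie

open Matrix CfsgLib.BNPair CfsgLib.CoprimeFix
open CfsgLib.CoprimeFix.MatrixBN (Supp Perm)

set_option linter.unusedSectionVars false

variable {ι : Type*} [Fintype ι] [DecidableEq ι] {F : Type*} [Field F] {L : ℕ} {lv : ι → Fin L}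

/-- A matrix with a left inverse moves the levels in only one way. -/
theorem perm_unique (hsurj : Function.Surjective lv) {A B : Matrix ι ι F} (hBA : B * A = 1)
    {σ σ' : Equiv.Perm (Fin L)} (h : Perm lv A σ) (h' : Perm lv A σ') : σ = σ' := by
  refine Equiv.ext fun x => ?_
  obtain ⟨b, rfl⟩ := hsurj x
  obtain ⟨a, ha⟩ : ∃ a, A a b ≠ 0 := by
    by_contra hno
    push Not at hno
    have h1 : (1 : Matrix ι ι F) b b = 0 := by
      rw [← hBA, Matrix.mul_apply]
      exact Finset.sum_eq_zero fun c _ => by rw [hno c, mul_zero]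
    simp at h1
  rw [← h a b ha, ← h' a b ha]

/-- A diagonal matrix of `p`-power order is trivial. -/
theorem eq_one_of_diag {p : ℕ} [Fact p.Prime] [CharP F p] (hlv : Function.Injective lv) {A : Matrix ι ι F}
    (hA : Perm lv A 1) {k : ℕ} (hk : A ^ p ^ k = 1) : A = 1 := by
  have hd : A = Matrix.diagonal fun a => A a a := Matrix.ext fun a b => by
    by_cases hab : a = b
    · subst hab; simp
    · rw [Matrix.diagonal_apply_ne _ hab]
      by_contra hne
      exact hab (hlv (by simpa using hA a b hne))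
  have hone : ∀ a, A a a = 1 := fun a => by
    have h1 : ((Matrix.diagonal fun a => A a a) ^ p ^ k) a a = 1 := by rw [← hd, hk, Matrix.one_apply_eq]
    rw [Matrix.diagonal_pow, Matrix.diagonal_apply_eq, Pi.pow_apply] at h1
    refine iterateFrobenius_inj F p k ?_
    rw [iterateFrobenius_def, iterateFrobenius_def, h1, one_pow]
  rw [hd]
  simp [hone]

variable {G : Subgroup (GL ι F)} (P : Cfsg.BNPair ↥G)

/-- Commuting simple reflections move the levels by commuting permutations. -/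
theorem commute_perm (hsurj : Function.Surjective lv)
    (hH : ∀ h ∈ P.B ⊓ P.N, Perm lv ((h : GL ι F) : Matrix ι ι F) 1) {s t : P.S} {σ τ : Equiv.Perm (Fin L)}
    (hs : Perm lv (((s : ↥G) : GL ι F) : Matrix ι ι F) σ)
    (ht : Perm lv (((t : ↥G) : GL ι F) : Matrix ι ι F) τ) (h : Commute (simp' P s) (simp' P t)) :
    Commute σ τ := by
  have h' : wcl P (⟨s, P.subset s.2⟩ * ⟨t, P.subset t.2⟩) =
      wcl P (⟨t, P.subset t.2⟩ * ⟨s, P.subset s.2⟩) := h
  rw [wcl_eq_iff] at h'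
  have hperm := hH (((s : ↥G) * t)⁻¹ * (t * s)) (Subgroup.mem_inf.2 ⟨h', mul_mem (inv_mem (mul_mem (P.subset s.2)
    (P.subset t.2))) (mul_mem (P.subset t.2) (P.subset s.2))⟩)
  have h2 := MatrixBN.Perm.mul lv (MatrixBN.Perm.mul lv hs ht) hperm
  rw [mul_one, ← Units.val_mul, ← Units.val_mul, ← Subgroup.coe_mul, ← Subgroup.coe_mul,
    mul_inv_cancel_left, Subgroup.coe_mul, Units.val_mul] at h2
  exact perm_unique hsurj (B := ((((t : ↥G) : GL ι F) * ((s : ↥G) : GL ι F))⁻¹ : GL ι F).1)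
    (by rw [← Units.val_mul, ← Units.val_mul, inv_mul_cancel, Units.val_one]) h2
    (MatrixBN.Perm.mul lv ht hs)

variable {P}

/-- A `p`-free torus from singleton levels. -/
theorem torusPrime_of_injective {p : ℕ} [Fact p.Prime] [CharP F p] (hlv : Function.Injective lv)
    (hH : ∀ h ∈ P.B ⊓ P.N, Perm lv ((h : GL ι F) : Matrix ι ι F) 1) : TorusPrime p P := fun h hh k hk =>
  Subtype.ext (Units.ext (eq_one_of_diag hlv (hH h hh) (k := k) (by
    rw [← Units.val_pow_eq_pow_val, ← Subgroup.coe_pow, hk, Subgroup.coe_one, Units.val_one])))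

section BN

variable {I : Type*} {τ : I → Equiv.Perm (Fin L)} [Finite F] (D : MatrixBN.Data lv τ G)

theorem matrix_hH : ∀ h ∈ D.bnPair.B ⊓ D.bnPair.N, Perm lv ((h : GL ι F) : Matrix ι ι F) 1 :=
  fun _ hh => D.B_inf_N.le hh

theorem matrix_branch {b t u : I} (htu : t ≠ u) (h1 : ¬ Commute (τ b) (τ t))
    (h2 : ¬ Commute (τ b) (τ u)) : Branch D.bnPair := by
  have hs : ∀ i, Perm lv (((D.s i : ↥G) : GL ι F) : Matrix ι ι F) (τ i) := D.s_perm
  refine ⟨⟨D.s b, b, rfl⟩, ⟨D.s t, t, rfl⟩, ⟨D.s u, u, rfl⟩,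
    fun h => h1 (commute_perm _ D.surj (matrix_hH D) (hs b) (hs t) h),
    fun h => h2 (commute_perm _ D.surj (matrix_hH D) (hs b) (hs u) h), fun h => htu (D.τ_inj ?_)⟩
  have e : D.s t = D.s u := congrArg Subtype.val h
  exact perm_unique D.surj (B := (((D.s t : ↥G) : GL ι F)⁻¹ : GL ι F).1) (Units.inv_mul _) (hs t)
    (e ▸ hs u)

theorem matrix_rank : D.bnPair.rank = Nat.card I := by
  refine Nat.card_range_of_injective fun i j e => D.τ_inj ?_
  exact perm_unique D.surj (B := (((D.s i : ↥G) : GL ι F)⁻¹ : GL ι F).1) (Units.inv_mul _) (D.s_perm i)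
    (by rw [e]; exact D.s_perm j)

/-- A minimal parabolic subgroup is `B` times one plus the root part. -/
theorem card_parabolic (i : I) : Nat.card (D.bnPair.parabolic {D.s i}) =
    Nat.card D.B * (Nat.card {a : ↥G // Supp lv (MatrixBN.mat G a) (MatrixBN.Root τ i)} + 1) := by
  have hτ' : Perm lv (MatrixBN.mat G (D.s i)⁻¹) (τ i)⁻¹ := by rw [D.τ_inv' i]; exact D.s_perm_inv i
  have hsB : D.s i ∉ D.B := not_mem_B D.bnPair ⟨D.s i, i, rfl⟩
  have hset := parabolic_singleton_eq D.bnPair ⟨D.s i, i, rfl⟩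
  let f : D.B × Option {a : ↥G // Supp lv (MatrixBN.mat G a) (MatrixBN.Root τ i)} → ↥G
    | (b, none) => b
    | (b, some a) => b * (D.s i * a)
  have hroot : ∀ a a' : {a : ↥G // Supp lv (MatrixBN.mat G a) (MatrixBN.Root τ i)},
      D.s i * ((a : ↥G) * (a' : ↥G)⁻¹) * (D.s i)⁻¹ ∈ D.B → a = a' := fun a a' hmem => by
    have ht : ∀ x y z, MatrixBN.Root τ i x y → MatrixBN.Root τ i y z → MatrixBN.Root τ i x z :=
      fun x y z h h' => ⟨h.1.trans h'.1, h'.2.trans h.2⟩
    have hsupp : Supp lv (MatrixBN.mat G ((a : ↥G) * (a' : ↥G)⁻¹)) (MatrixBN.Root τ i) :=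
      MatrixBN.Supp.mul lv ht a.2 (D.inv_of_closed {g | Supp lv (MatrixBN.mat G g) (MatrixBN.Root τ i)}
        (MatrixBN.supp_one lv _) (fun g hg g' hg' => MatrixBN.Supp.mul lv ht hg hg') a'.2)
    exact Subtype.ext (mul_inv_eq_one.1
      (conj_eq_one_iff.1 (D.eq_one_of_lower_mem_B hmem (D.s_conj_root hsupp))))
  have hinj : Function.Injective f := by
    rintro ⟨b, _ | a⟩ ⟨b', _ | a'⟩ e <;> simp only [f] at e
    · rw [Subtype.ext e]
    · exfalso
      refine hsB ?_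
      rw [show D.s i = (b' : ↥G)⁻¹ * b * (a' : ↥G)⁻¹ by rw [e]; group]
      exact mul_mem (mul_mem (inv_mem b'.2) b.2) (inv_mem (D.U_le_B (D.root_U a'.2)))
    · exfalso
      refine hsB ?_
      rw [show D.s i = (b : ↥G)⁻¹ * b' * (a : ↥G)⁻¹ by rw [← e]; group]
      exact mul_mem (mul_mem (inv_mem b.2) b'.2) (inv_mem (D.U_le_B (D.root_U a.2)))
    · have e1 : D.s i * ((a : ↥G) * (a' : ↥G)⁻¹) * (D.s i)⁻¹ = (b : ↥G)⁻¹ * b' := by
        calc _ = (b : ↥G)⁻¹ * (b * (D.s i * a)) * ((a' : ↥G)⁻¹ * (D.s i)⁻¹) := by group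
          _ = _ := by rw [e]; group
      obtain rfl := hroot a a' (e1 ▸ mul_mem (inv_mem b.2) b'.2)
      rw [Subtype.ext (mul_right_cancel e)]
  have hrange : Set.range f = (D.bnPair.parabolic {D.s i} : Set ↥G) := by
    refine subset_antisymm ?_ ?_
    · rintro _ ⟨⟨b, _ | a⟩, rfl⟩
      · exact B_le_parabolic D.bnPair _ b.2
      · exact mul_mem (B_le_parabolic D.bnPair _ b.2) (mul_mem (subset_parabolic D.bnPair _ rfl)
          (B_le_parabolic D.bnPair _ (D.U_le_B (D.root_U a.2))))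
    · rw [hset]
      rintro g (hg | hg)
      · exact ⟨(⟨g, hg⟩, none), rfl⟩
      · obtain ⟨b, hb, b', hb', rfl⟩ := DoubleCoset.mem_doubleCoset.1 hg
        obtain ⟨u', hu', h, hh, rfl⟩ := D.mem_B.1 hb'
        have hu : h⁻¹ * u' * h ∈ D.U := by simpa using D.H_conj_U (D.H.inv_mem hh) hu'
        obtain ⟨a, ha, hc⟩ := D.split i _ hu
        have hcU : D.s i * (h⁻¹ * u' * h * a⁻¹) * (D.s i)⁻¹ ∈ D.U :=
          D.conj_supp' (D.s_perm i) hτ' hc fun x y ⟨hxy, hr⟩ =>
            lt_of_le_of_ne (not_lt.1 fun hlt => hr ⟨hxy, hlt⟩) fun e => hxy.ne ((τ i).injective e)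
        refine ⟨(⟨b * (D.s i * h * (D.s i)⁻¹) * (D.s i * (h⁻¹ * u' * h * a⁻¹) * (D.s i)⁻¹),
          mul_mem (mul_mem hb (D.H_le_B (D.M_conj_H (D.s_mem_M i) hh))) (D.U_le_B hcU)⟩, some ⟨a, ha⟩), ?_⟩
        simp only [f]
        group
  show Nat.card (D.bnPair.parabolic {D.s i} : Set ↥G) = _
  rw [← hrange, Nat.card_range_of_injective hinj, Nat.card_prod, Finite.card_option]

end BN

section Gen

variable {I : Type*} {τ : I → Equiv.Perm (Fin L)} {R : I → Fin L → Fin L → Prop} [Finite F]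
  (D : MatrixBNGen.Data lv τ R G)

theorem gen_hH : ∀ h ∈ D.bnPair.B ⊓ D.bnPair.N, Perm lv ((h : GL ι F) : Matrix ι ι F) 1 :=
  fun _ hh => D.B_inf_N.le hh

theorem gen_branch {b t u : I} (htu : t ≠ u) (h1 : ¬ Commute (τ b) (τ t))
    (h2 : ¬ Commute (τ b) (τ u)) : Branch D.bnPair := by
  have hs : ∀ i, Perm lv (((D.s i : ↥G) : GL ι F) : Matrix ι ι F) (τ i) := D.s_perm
  refine ⟨⟨D.s b, b, rfl⟩, ⟨D.s t, t, rfl⟩, ⟨D.s u, u, rfl⟩,
    fun h => h1 (commute_perm _ D.surj (gen_hH D) (hs b) (hs t) h),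
    fun h => h2 (commute_perm _ D.surj (gen_hH D) (hs b) (hs u) h), fun h => htu (D.τ_inj ?_)⟩
  have e : D.s t = D.s u := congrArg Subtype.val h
  exact perm_unique D.surj (B := (((D.s t : ↥G) : GL ι F)⁻¹ : GL ι F).1) (Units.inv_mul _) (hs t)
    (e ▸ hs u)

theorem gen_rank : D.bnPair.rank = Nat.card I := by
  refine Nat.card_range_of_injective fun i j e => D.τ_inj ?_
  exact perm_unique D.surj (B := (((D.s i : ↥G) : GL ι F)⁻¹ : GL ι F).1) (Units.inv_mul _) (D.s_perm i)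
    (by rw [e]; exact D.s_perm j)

end Gen

end CfsgLib.PMinLie
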