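import Cfsg.Agent.Lib.PMinLie.Matrix
import Cfsg.Agent.Lib.PMinLie.Family
import Cfsg.Agent.Lib.CoprimeFix85.RadicalOrth
import Cfsg.Agent.Lib.SplitBlocks.TorusOrth
import Cfsg.Agent.S0295
import Cfsg.Agent.S0296
import Cfsg.Agent.S0297

/-!
The orthogonal groups: they have rank at least three.
-/

set_option autoImplicit false
set_option linter.unusedSectionVars false

namespace CfsgLib.PMinLie

open Matrix QuadraticMap CfsgLib.Orth CfsgLib.AutPOmega Cfsg.Agent.Spinor57
open CfsgLib.BNPair CfsgLib.CoprimeFix CfsgLib.CoprimeFix.Ortho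

theorem torusPrime_of_coprime {p : ℕ} [Fact p.Prime] {G : Type*} [Group G] {P : Cfsg.BNPair G}
    (h : ∀ x ∈ P.B ⊓ P.N, ¬ p ∣ orderOf x) : TorusPrime p P := fun x hx k hk => by
  obtain ⟨j, -, hj⟩ := (Nat.dvd_prime_pow Fact.out).1 (orderOf_dvd_of_pow_eq_one hk)
  cases j with
  | zero => exact orderOf_eq_one_iff.1 (by rw [hj, pow_zero])
  | succ j => exact absurd (hj ▸ dvd_pow_self p j.succ_ne_zero) (h x hx)

section Frame

variable {ι : Type} [Fintype ι] [DecidableEq ι] {F : Type*} [Field F] [Finite F]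
  {Q : QuadraticForm F (ι → F)} {w e : ℕ} (E : CoordFrame Q w e)

theorem fam_frame (p : ℕ) [Fact p.Prime] [CharP F p] (T : SplitBlocks.Torus p E.data.bnPair)
    (hs : IsSimpleGroup (PG Q)) : Fam p (PG Q) := by
  have T' := torusPrime_of_coprime T.coprime
  let eqv : ↥(OmGL Q) ≃* Om Q :=
    ((Cfsg.Omega F ⇑Q).equivMapOfInjective (O Q).subtype Subtype.val_injective).symm
  let f : ↥(OmGL Q) →* PG Q := (QuotientGroup.mk' _).comp eqv.toMonoidHom
  have hf : Function.Surjective f := (QuotientGroup.mk'_surjective _).comp eqv.surjective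
  have hH : f.ker ≤ E.data.H := fun x hx => by
    have hz : eqv x ∈ Subgroup.center (Cfsg.Omega F ⇑Q) := (QuotientGroup.eq_one_iff _).1 hx
    obtain ⟨c, -, -, hv⟩ := E.S.center_scalar hz
    have he : ((eqv x).1 : GL ι F) = x.1 := congrArg Subtype.val (eqv.symm_apply_apply x)
    refine (show MatrixBN.Perm E.lv (MatrixBNGen.mat (OmGL Q) x) 1 from fun a b hab => ?_)
    change ((x.1 : GL ι F) : Matrix ι ι F) a b ≠ 0 at hab
    rw [← he, CoordFrame.entry, hv, Pi.smul_apply, Pi.single_apply] at hab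
    by_cases h : a = b
    · rw [h]; rfl
    · simp [h] at hab
  have hker : f.ker ≤ E.data.bnPair.B := hH.trans E.data.H_le_B
  have H := E.data.splitHyp p
  have hU : ¬ p ∣ (E.data.U.map f).index := not_dvd_index_map hf hker (not_dvd_index H T')
  have hR : CfsgLib.CoprimeFix85.Radical p (bnQuot E.data.bnPair f hf hker) :=
    (E.radical p).quot (f := f) hf hker fun x hx j hj =>
      T' x (E.data.B_inf_N.ge (hH hx)) j hj
  have hw := E.three_le
  have hr : E.data.bnPair.rank = w := by
    rw [gen_rank E.data, Nat.card_sum, Nat.card_fin, Nat.card_unique]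
    omega
  refine ⟨_, _, H.quot hf hker, hU, fun h3 => branch_of_radical (H.quot hf hker) hU hR h3, ?_, ?_⟩
  all_goals rw [rank_quot hf hker, hr]
  · omega
  · omega

end Frame

theorem fam_congr {F : Type} [Field F] [Fintype F] {ι : Type} [Fintype ι] [DecidableEq ι] (p : ℕ)
    {f g : (ι → F) → F} (h : f = g) (hs : IsSimpleGroup (Cfsg.POmega F g))
    (hfam : IsSimpleGroup (Cfsg.POmega F f) → Fam p (Cfsg.POmega F f)) : Fam p (Cfsg.POmega F g) := by
  subst h; exact hfam hs

variable {p : ℕ} [Fact p.Prime] {G : Type*} [Group G]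

theorem fam_pOmega (h : Cfsg.IsPOmegaOddChar p G ∨ Cfsg.IsPOmegaPlusChar p G ∨ Cfsg.IsPOmegaMinusChar p G) :
    Fam p G := by
  rcases h with ⟨F, i1, i2, i3, m, hm, hF, ⟨e⟩⟩ | ⟨F, i1, i2, i3, m, hm, ⟨e⟩⟩ |
    ⟨F, i1, i2, i3, m, a, b, hm, hab, ⟨e⟩⟩
  · have h2 : (2 : F) ≠ 0 := CfsgLib.POmega.two_ne_zero_of_odd hF
    refine Fam.of_equiv ?_ e
    refine fam_congr p qOdd_coe (Cfsg.Agent.S0295.result hF m hm) fun hs =>
      fam_frame (oddCoord F h2 m hm) p (SplitBlocks.torus_frame _ ?_ p) hs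
    refine SplitBlocks.lv_injective_of_unique _ fun i j hi hj => ?_
    rcases i with i | i | i
    · rcases j with j | j | j
      · rfl
      · exact absurd rfl (hj (j, true))
      · exact absurd rfl (hj (j, false))
    · exact absurd rfl (hi (i, true))
    · exact absurd rfl (hi (i, false))
  · refine Fam.of_equiv ?_ e
    refine fam_congr p (plusQ_coe m) (Cfsg.Agent.S0296.result m hm) fun hs =>
      fam_frame (plusCoord F m hm) p (SplitBlocks.torus_frame _ ?_ p) hs
    refine SplitBlocks.lv_injective_of_unique _ fun i j hi _ => ?_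
    rcases i with i | i
    · exact absurd rfl (hi (i, true))
    · exact absurd rfl (hi (i, false))
  · refine Fam.of_equiv ?_ e
    exact fam_congr p (minusQ_coe _ a b) (Cfsg.Agent.S0297.result m hm a b hab) fun hs =>
      fam_frame _ p (SplitBlocks.torus_pOmegaMinus p hm hab) hs

end CfsgLib.PMinLie
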