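import Cfsg.Agent.Lib.PMinLie.Main
import Cfsg.Agent.Lib.CoprimeFix.BNQuot

/-!
The Sylow property of the unipotent group, and transfer of the invariants of a `(B, N)`-pair along a
surjection with kernel in `B`.
-/

set_option autoImplicit false

namespace CfsgLib.PMinLie

open CfsgLib.BNPair CfsgLib.CoprimeFix

variable {G G' : Type*} [Group G] [Group G'] {p : ℕ} {P : Cfsg.BNPair G} {U : Subgroup G}

/-- `B ⊓ N` has no elements of order `p`. -/
def TorusPrime (p : ℕ) (P : Cfsg.BNPair G) : Prop :=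
  ∀ h ∈ P.B ⊓ P.N, ∀ k : ℕ, h ^ p ^ k = 1 → h = 1

theorem mem_U_of_pow (H : SplitHyp p P U) (T : TorusPrime p P) {b : G} (hb : b ∈ P.B) {k : ℕ}
    (hk : b ^ p ^ k = 1) : b ∈ U := by
  obtain ⟨u, hu, h, hh, rfl⟩ := H.decomp b hb
  have key : ∀ j : ℕ, ∃ v ∈ U, (u * h) ^ j = v * h ^ j := by
    intro j
    induction j with
    | zero => exact ⟨1, one_mem _, by simp⟩
    | succ j ih =>
      obtain ⟨v, hv, e⟩ := ih
      refine ⟨v * (h ^ j * u * (h ^ j)⁻¹), mul_mem hv (H.norm _ (pow_mem hh.1 j) u hu), ?_⟩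
      rw [pow_succ, e]
      group
  obtain ⟨v, hv, e⟩ := key (p ^ k)
  rw [hk] at e
  have e' : h ^ p ^ k = v⁻¹ := eq_inv_of_mul_eq_one_right e.symm
  obtain ⟨j, hj⟩ := H.pGroup ⟨v, hv⟩
  have hj' : v ^ p ^ j = 1 := congrArg Subtype.val hj
  have h1 : h = 1 := T h hh (k + j) (by rw [pow_add, pow_mul, e', inv_pow, hj', inv_one])
  rw [h1, mul_one]
  exact hu

/-- With a `p`-free torus `U` is a Sylow `p`-subgroup. -/
theorem not_dvd_index [Finite G] [Fact p.Prime] (H : SplitHyp p P U) (T : TorusPrime p P) :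
    ¬ p ∣ U.index := by
  obtain ⟨Q, hQ⟩ := H.pGroup.exists_le_sylow
  have hUQ : U = Q := by
    by_contra hne
    have hlt : U.subgroupOf (Q : Subgroup G) < ⊤ :=
      lt_top_iff_ne_top.2 fun h => hne (le_antisymm hQ (Subgroup.subgroupOf_eq_top.1 h))
    have hnilp : Group.IsNilpotent (Q : Subgroup G) := Q.isPGroup'.isNilpotent
    obtain ⟨x, hx, hxU⟩ := SetLike.exists_of_lt (Group.normalizerCondition_of_isNilpotent _ hlt)
    have hxB : (x : G) ∈ P.B := by
      rw [← H.normalizer_eq, Subgroup.mem_normalizer_iff]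
      intro u
      have hx' := Subgroup.mem_normalizer_iff.1 hx
      refine ⟨fun hu => ?_, fun hu => ?_⟩
      · simpa [Subgroup.mem_subgroupOf] using (hx' ⟨u, hQ hu⟩).1 (Subgroup.mem_subgroupOf.2 hu)
      · have hu' : u ∈ (Q : Subgroup G) := by
          have := mul_mem (mul_mem (inv_mem x.2) (hQ hu)) x.2
          simpa [mul_assoc] using this
        simpa [Subgroup.mem_subgroupOf] using
          (hx' ⟨u, hu'⟩).2 (Subgroup.mem_subgroupOf.2 (by simpa using hu))
    obtain ⟨k, hk⟩ := Q.isPGroup' x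
    exact hxU (Subgroup.mem_subgroupOf.2 (mem_U_of_pow H T hxB (congrArg Subtype.val hk)))
  rw [hUQ]
  exact Q.not_dvd_index

section Quot

variable {f : G →* G'} (hf : Function.Surjective f) (hker : f.ker ≤ P.B)
include hker

theorem injOn_S : Set.InjOn f P.S := fun s hs t ht e =>
  P.inj s hs t ht (hker (by rw [MonoidHom.mem_ker, map_mul, map_inv, e, inv_mul_cancel]))

include hf

theorem rank_quot : (bnQuot P f hf hker).rank = P.rank :=
  Nat.card_image_of_injOn (injOn_S hker)

theorem not_dvd_index_map (hU : ¬ p ∣ U.index) : ¬ p ∣ (U.map f).index := fun h =>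
  hU (h.trans (U.index_map_dvd hf))

theorem parabolic_quot (J : Set G) :
    (bnQuot P f hf hker).parabolic (f '' J) = (P.parabolic J).map f := by
  rw [Cfsg.BNPair.parabolic, Cfsg.BNPair.parabolic, Subgroup.map_sup, MonoidHom.map_closure]
  rfl

theorem commute_quot (s t : P.S) (h : Commute
    (simp' (bnQuot P f hf hker) ⟨f s, s, s.2, rfl⟩) (simp' (bnQuot P f hf hker) ⟨f t, t, t.2, rfl⟩)) :
    Commute (simp' P s) (simp' P t) := by
  let n₁ : (bnQuot P f hf hker).N := ⟨f s, (bnQuot P f hf hker).subset ⟨s, s.2, rfl⟩⟩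
  let n₂ : (bnQuot P f hf hker).N := ⟨f t, (bnQuot P f hf hker).subset ⟨t, t.2, rfl⟩⟩
  have h' : wcl (bnQuot P f hf hker) (n₁ * n₂) = wcl (bnQuot P f hf hker) (n₂ * n₁) := h
  rw [wcl_eq_iff] at h'
  show wcl P (⟨s, P.subset s.2⟩ * ⟨t, P.subset t.2⟩) = wcl P (⟨t, P.subset t.2⟩ * ⟨s, P.subset s.2⟩)
  rw [wcl_eq_iff]
  refine mem_of_map_mem hker ?_
  have e : f (((s : G) * t)⁻¹ * (t * s)) = (f s * f t)⁻¹ * (f t * f s) := by simp
  show f (((s : G) * t)⁻¹ * (t * s)) ∈ P.B.map f
  rw [e]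
  exact h'

theorem branch_quot (hb : Branch P) : Branch (bnQuot P f hf hker) := by
  obtain ⟨b, t, u, h1, h2, hne⟩ := hb
  exact ⟨⟨f b, b, b.2, rfl⟩, ⟨f t, t, t.2, rfl⟩, ⟨f u, u, u.2, rfl⟩,
    fun h => h1 (commute_quot hf hker b t h), fun h => h2 (commute_quot hf hker b u h),
    fun h => hne (Subtype.ext (injOn_S hker t.2 u.2 (congrArg Subtype.val h)))⟩

end Quot

/-- No automorphism fixing `U` exchanges two simple reflections. -/
def NoSwap (P : Cfsg.BNPair G) (U : Subgroup G) : Prop :=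
  ∀ α : MulAut G, U.map α.toMonoidHom = U → ∀ s t : P.S,
    (P.parabolic {(s : G)}).map α.toMonoidHom = P.parabolic {(t : G)} → s = t

/-- The minimal parabolic subgroups have distinct orders. -/
def Unequal (P : Cfsg.BNPair G) : Prop :=
  ∀ s t : P.S, Nat.card (P.parabolic {(s : G)}) = Nat.card (P.parabolic {(t : G)}) → s = t

theorem Unequal.noSwap (h : Unequal P) (U : Subgroup G) : NoSwap P U := fun α _ s t e => h s t (by
  rw [← e]
  exact Nat.card_congr ((P.parabolic {(s : G)}).equivMapOfInjective α.toMonoidHom α.injective).toEquiv)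

theorem card_map_eq [Finite G] (f : G →* G') {H : Subgroup G} (h : f.ker ≤ H) :
    Nat.card (H.map f) * Nat.card f.ker = Nat.card H := by
  rw [Subgroup.card_eq_card_quotient_mul_card_subgroup (f.comp H.subtype).ker,
    Nat.card_congr (QuotientGroup.quotientKerEquivRange (f.comp H.subtype)).toEquiv,
    MonoidHom.range_comp, Subgroup.range_subtype]
  congr 1
  exact (Nat.card_congr (Subgroup.subgroupOfEquivOfLe h).toEquiv).symm

theorem unequal_quot [Finite G] {f : G →* G'} (hf : Function.Surjective f) (hker : f.ker ≤ P.B)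
    (h : Unequal P) : Unequal (bnQuot P f hf hker) := by
  rintro ⟨_, s, hs, rfl⟩ ⟨_, t, ht, rfl⟩ e
  have key : ∀ s : G, Nat.card ((bnQuot P f hf hker).parabolic {f s}) * Nat.card f.ker =
      Nat.card (P.parabolic {s}) := fun s => by
    rw [← Set.image_singleton, parabolic_quot hf hker]
    exact card_map_eq f (hker.trans (B_le_parabolic P _))
  have := h ⟨s, hs⟩ ⟨t, ht⟩ (by rw [← key, ← key]; exact congrArg (· * Nat.card f.ker) e)
  exact Subtype.ext (congrArg f (congrArg Subtype.val this))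

theorem noSwap_equiv (e : G ≃* G') (h : e.toMonoidHom.ker ≤ P.B) (hns : NoSwap P U) :
    NoSwap (bnQuot P e.toMonoidHom e.surjective h) (U.map e.toMonoidHom) := by
  rintro α hα ⟨_, s, hs, rfl⟩ ⟨_, t, ht, rfl⟩ he
  let β : MulAut G := (e.trans α).trans e.symm
  have key : ∀ A C : Subgroup G, (A.map e.toMonoidHom).map α.toMonoidHom = C.map e.toMonoidHom →
      A.map β.toMonoidHom = C := by
    intro A C hAC
    have h1 : β.toMonoidHom = e.symm.toMonoidHom.comp (α.toMonoidHom.comp e.toMonoidHom) := rfl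
    rw [h1, ← Subgroup.map_map, ← Subgroup.map_map, hAC, Subgroup.map_map,
      show e.symm.toMonoidHom.comp e.toMonoidHom = MonoidHom.id G from
        MonoidHom.ext e.symm_apply_apply]
    exact Subgroup.map_id C
  have hkey := hns β (key U U hα) ⟨s, hs⟩ ⟨t, ht⟩ (key _ _ ?_)
  · exact Subtype.ext (congrArg e (congrArg Subtype.val hkey))
  · rw [← parabolic_quot e.surjective h, ← parabolic_quot e.surjective h, Set.image_singleton,
      Set.image_singleton]
    exact he

end CfsgLib.PMinLie
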